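import Cfsg.Agent.Lib.CS67.Tools7

/-! Case (A): the only classes of `C(t)` fused with `t` in `S` are `t` and the class of `t z`. -/

set_option autoImplicit false
set_option maxRecDepth 100000

namespace Cfsg.Agent.Lib.CS67.Cfg7

open Cfsg.Agent.Lib.CS67.Sign Cfsg.Agent.Lib.CS67.Local Cfsg.Agent.Lib.CS67.Perm7

variable {G : Type*} [Group G] {t : G} {j : P7 →* G}

/-- `X` centralizes all even codes and takes `t` to `t z`. -/
structure XH (t : G) (j : P7 →* G) (X : G) : Prop where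
  comm : ∀ n, n < 32 → n &&& 1 = 0 → X * psi t j n = psi t j n * X
  tz : X * t * X⁻¹ = psi t j 13

/-- The action of such an `X` on codes. -/
def thX (n : ℕ) : ℕ := if n &&& 1 = 0 then n else mulS 12 n

theorem thX_lt : ∀ n : Fin 32, thX n.1 < 32 := by decide +kernel

theorem thX_odd : ∀ n : Fin 32, n.1 &&& 1 = 1 →
    mulS 1 n.1 < 32 ∧ mulS 1 n.1 &&& 1 = 0 ∧ mulS 1 (mulS 1 n.1) = n.1 ∧
    mulS 13 (mulS 1 n.1) = mulS 12 n.1 := by decide +kernel

lemma XH.conj (h : Cfg t j) {X : G} (hX : XH t j X) (n : ℕ) (hn : n < 32) :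
    X * psi t j n * X⁻¹ = psi t j (thX n) := by
  rcases psi_bit n hn with h1 | h1
  · simp only [thX, h1, if_true]
    rw [hX.comm n hn h1]; group
  · obtain ⟨a1, a2, a3, a4⟩ := thX_odd ⟨n, hn⟩ h1
    simp only at a1 a2 a3 a4
    have e1 : thX n = mulS 12 n := by simp [thX, h1]
    have e2 : psi t j n = t * psi t j (mulS 1 n) := by
      rw [t_mul_psi h _ a1, a3]
    rw [e1, ← a4, psi_mul h 13 _ (by norm_num) a1, e2]
    calc X * (t * psi t j (mulS 1 n)) * X⁻¹
        = (X * t * X⁻¹) * (X * psi t j (mulS 1 n) * X⁻¹) := by group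
      _ = psi t j 13 * psi t j (mulS 1 n) := by
          rw [hX.tz, hX.comm _ a1 a2]; group

lemma XH.conj_y (h : Cfg t j) {X : G} (hX : XH t j X) (s n : ℕ) (hs : s < 32) (hn : n < 32) :
    (X * psi t j s) * psi t j n * (X * psi t j s)⁻¹ = psi t j (thX (conjS s n)) := by
  rw [← XH.conj h hX _ (conjS_lt s n hs hn), ← psi_conjS h s n hs hn]; group

lemma XH.ne_psi (h : Cfg t j) {X : G} (hX : XH t j X) (c : ℕ) (hc : c < 32) : psi t j c ≠ X := by
  intro e
  have h1 : psi t j 13 = psi t j 1 := by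
    rw [← hX.tz, ← e, psi_comm_t h c hc, psi_one]; group
  exact psi_ne h (by norm_num) (by norm_num) (by norm_num) h1

lemma XH.sq (h : Cfg t j) {X : G} (hX : XH t j X) {w : ℕ} (hw : w < 32)
    (hXX : X * X = psi t j w) (m : ℕ) (hm : m < 32) :
    (X * psi t j m) * (X * psi t j m) = psi t j (mulS (mulS (thX m) w) m) := by
  rw [psi_mul h _ _ (mulS_lt ⟨_, thX_lt ⟨m, hm⟩⟩ ⟨w, hw⟩) hm, psi_mul h _ _ (thX_lt ⟨m, hm⟩) hw,
    ← XH.conj h hX m hm, ← hXX]
  group

lemma XH.Dx_sq (h : Cfg t j) {X : G} (hX : XH t j X) {w : ℕ} (hw : w < 32)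
    (hXX : X * X = psi t j w) (m : ℕ) (hm : m < 32) (hD : IsConj t (X * psi t j m)) :
    mulS (mulS (thX m) w) m = 0 := by
  have h1 := conj_sq h _ hD
  rw [XH.sq h hX hw hXX m hm, ← psi_zero (t := t) (j := j)] at h1
  exact psi_inj h _ _ (mulS_lt ⟨_, mulS_lt ⟨_, thX_lt ⟨m, hm⟩⟩ ⟨w, hw⟩⟩ ⟨m, hm⟩) (by norm_num) h1

/-- Conjugating `X ψ m` by `t`. -/
lemma XH.Dx_t (h : Cfg t j) {X : G} (hX : XH t j X) (m : ℕ) (hm : m < 32)
    (hD : IsConj t (X * psi t j m)) : IsConj t (X * psi t j (mulS 12 m)) := by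
  have e13 : thX 13 = 1 := by decide +kernel
  have h1 : X * psi t j 13 * X⁻¹ = t := by
    rw [XH.conj h hX 13 (by norm_num), e13, psi_one]
  have h2 : t * X = X * psi t j 13 := by
    calc t * X = (X * psi t j 13 * X⁻¹) * X := by rw [h1]
      _ = X * psi t j 13 := by group
  have h3 : psi t j 13 = t * psi t j 12 := by
    rw [t_mul_psi h 12 (by norm_num)]; rfl
  have h4 : t * (X * psi t j m) * t⁻¹ = X * psi t j (mulS 12 m) := by
    rw [psi_mul h 12 m (by norm_num) hm, ← mul_assoc t X, h2, h3]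
    have h5 := psi_comm_t h m hm
    have h6 : t * t = 1 := h.t2
    have h7 : t⁻¹ = t := (eq_inv_of_mul_eq_one_left h6).symm
    rw [h7]
    calc X * (t * psi t j 12) * psi t j m * t = X * t * psi t j 12 * (psi t j m * t) := by group
      _ = X * t * psi t j 12 * (t * psi t j m) := by rw [h5]
      _ = X * (t * (psi t j 12 * t)) * psi t j m := by group
      _ = X * (t * (t * psi t j 12)) * psi t j m := by rw [psi_comm_t h 12 (by norm_num)]
      _ = X * ((t * t) * psi t j 12) * psi t j m := by group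
      _ = X * (psi t j 12 * psi t j m) := by rw [h6]; group
  rw [← h4]
  exact (isConj_conj_iff t t _).2 hD

/-- Count in a subgroup `K ∪ yK` inside the centralizer of a conjugate of `t`. -/
theorem ext_count [Finite G] (h : Cfg t j) (F : ℕ → Bool) (hp : ∀ n, n < 32 → (Dc t j n ↔ F n = true))
    (L : List ℕ) (hL : CL L) (hlen : L.length = 16) (y : G)
    (hN : ∀ n ∈ L, ∃ m ∈ L, y * psi t j n * y⁻¹ = psi t j m)
    (hy2 : ∃ m ∈ L, y * y = psi t j m) (hyK : ∀ n ∈ L, psi t j n ≠ y)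
    (d : G) (hd : IsConj t d) (hdL : ∀ n ∈ L, psi t j n * d = d * psi t j n) (hdy : y * d = d * y) :
    L.countP F + cL t y j L = Sl.countP F := by
  obtain ⟨Q, hQ, hQc, hQn⟩ := ext_KS h L hL y hN hy2 hyK
  have hQd : Q ≤ Subgroup.centralizer ({d} : Set G) := by
    intro g hg
    rw [Subgroup.mem_centralizer_singleton_iff]
    rcases (hQ g).1 hg with ⟨n, hn, rfl⟩ | ⟨n, hn, rfl⟩
    · exact hdL n hn
    · rw [mul_assoc, hdL n hn, ← mul_assoc, hdy, mul_assoc]
  have h1 := cnt_eq_of_sylow t d hd (KS h Sl cl_S) Q (KS_S_le_t h) hQd 5 315 (by rw [h.card]; norm_num)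
    (by decide) (card_S h) (by rw [hQc, hlen]; norm_num)
  have hF : ∀ (L : List ℕ), (∀ n ∈ L, n < 32) → cL t 1 j L = L.countP F := by
    intro L hL
    apply cL_congr
    intro n hn
    rw [one_mul]
    exact hp n (hL n hn)
  rw [hQn, cnt_KS, hF Sl cl_S.lt, hF L hL.lt] at h1
  exact h1

def E2l : List ℕ := [0, 1, 2, 3, 12, 13, 14, 15, 16, 17, 18, 19, 28, 29, 30, 31]
def E1l : List ℕ := [0, 1, 2, 3, 4, 5, 6, 7, 8, 9, 10, 11, 12, 13, 14, 15]

theorem cl_E2 : CL E2l := ⟨by decide +kernel, by decide +kernel, by decide +kernel, by decide +kernel, by decide +kernel⟩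
theorem cl_E1 : CL E1l := ⟨by decide +kernel, by decide +kernel, by decide +kernel, by decide +kernel, by decide +kernel⟩

abbrev FA : ℕ → Bool := PB true false false false false

section X

variable (h : Cfg t j) {X : G} (hX : XH t j X)

include h hX

lemma XH.mul_psi_ne (s n : ℕ) (hs : s < 32) (hn : n < 32) : psi t j n ≠ X * psi t j s := by
  intro e
  apply XH.ne_psi h hX (mulS n (invS s)) (mulS_lt ⟨n, hn⟩ ⟨_, invS_lt ⟨s, hs⟩⟩)
  rw [psi_mul h _ _ hn (invS_lt ⟨s, hs⟩), psi_invS h s hs, e]; group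

/-- The count in `E ∪ (X ψ s) E`, for a code `d` fixed by `X ψ s`. -/
lemma XH.count [Finite G] (F : ℕ → Bool) (hp : ∀ n, n < 32 → (Dc t j n ↔ F n = true))
    (hXX : X * X = 1)
    (L : List ℕ) (hL : CL L) (hlen : L.length = 16) (s d : ℕ) (hs : s < 32) (hd : d < 32)
    (hsL : ∀ n ∈ L, thX (conjS s n) ∈ L) (hsq : mulS (mulS (thX s) 0) s ∈ L)
    (hdD : F d = true) (hdL : ∀ n ∈ L, mulS n d = mulS d n) (hds : thX (conjS s d) = d) :
    L.countP F + cL t (X * psi t j s) j L = Sl.countP F := by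
  have hXX' : X * X = psi t j 0 := by rw [hXX, psi_zero]
  apply ext_count h F hp L hL hlen (X * psi t j s) ?_ ?_ ?_ (psi t j d) ((hp d hd).2 hdD) ?_ ?_
  · intro n hn
    exact ⟨_, hsL n hn, XH.conj_y h hX s n hs (hL.lt n hn)⟩
  · exact ⟨_, hsq, XH.sq h hX (by norm_num) hXX' s hs⟩
  · intro n hn
    exact XH.mul_psi_ne h hX s n hs (hL.lt n hn)
  · intro n hn
    rw [← psi_mul h _ _ (hL.lt n hn) hd, ← psi_mul h _ _ hd (hL.lt n hn), hdL n hn]
  · have := XH.conj_y h hX s d hs hd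
    rw [hds] at this
    exact mul_inv_eq_iff_eq_mul.1 this

/-- The main claim: if some odd code gives a conjugate, no even code does. -/
theorem XH.no_even [Finite G] (hp : ∀ n, n < 32 → (Dc t j n ↔ FA n = true)) (hXX : X * X = 1)
    (m : ℕ) (hm : m < 32) (hodd : m &&& 1 = 1) (hD : IsConj t (X * psi t j m)) :
    ∀ k, k < 32 → k &&& 1 = 0 → ¬ IsConj t (X * psi t j k) := by
  have hXX' : X * X = psi t j 0 := by rw [hXX, psi_zero]
  have hS : Sl.countP FA = 6 := by decide +kernel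
  have hm1 := XH.Dx_sq h hX (by norm_num) hXX' m hm hD
  have hmL : m ∈ [21, 23, 25, 27] := by
    have : ∀ m : Fin 32, m.1 &&& 1 = 1 → mulS (mulS (thX m.1) 0) m.1 = 0 → m.1 ∈ [21, 23, 25, 27] := by
      decide +kernel
    exact this ⟨m, hm⟩ hodd hm1
  have hD2 := XH.Dx_t h hX m hm hD
  -- rewriting products
  have hprod : ∀ s n, s < 32 → n < 32 → X * psi t j s * psi t j n = X * psi t j (mulS s n) := by
    intro s n hs hn
    rw [psi_mul h s n hs hn]; group
  -- first subgroup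
  have c1 := XH.count h hX FA hp hXX E2l cl_E2 rfl 4 17 (by norm_num) (by norm_num)
    (by decide +kernel) (by decide +kernel) (by decide +kernel) (by decide +kernel) (by decide +kernel)
  have e1 : E2l.countP FA = 4 := by decide +kernel
  rw [hS, e1] at c1
  have c1' : cL t (X * psi t j 4) j E2l = 2 := by omega
  have hb : ∀ k, k ∈ [4, 6, 8, 10] → ¬ IsConj t (X * psi t j k) := by
    intro k hk hDk
    have key : ∀ m ∈ [21, 23, 25, 27], ∀ k ∈ [4, 6, 8, 10],
        [mulS 4 m, mulS 4 (mulS 12 m), mulS 4 k].Nodup ∧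
        (mulS 4 m ∈ E2l ∧ mulS 4 (mulS 4 m) = m) ∧
        (mulS 4 (mulS 12 m) ∈ E2l ∧ mulS 4 (mulS 4 (mulS 12 m)) = mulS 12 m) ∧
        (mulS 4 k ∈ E2l ∧ mulS 4 (mulS 4 k) = k) := by decide +kernel
    obtain ⟨k1, k2, k3, k4⟩ := key m hmL k hk
    have := length_le_cL (t := t) (j := j) (X * psi t j 4) E2l _ k1 cl_E2.nodup (by
      intro n hn
      simp only [List.mem_cons, List.not_mem_nil, or_false] at hn
      rcases hn with rfl | rfl | rfl
      · refine ⟨k2.1, ?_⟩
        rw [hprod _ _ (by norm_num) (cl_E2.lt _ k2.1), k2.2]; exact hD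
      · refine ⟨k3.1, ?_⟩
        rw [hprod _ _ (by norm_num) (cl_E2.lt _ k3.1), k3.2]; exact hD2
      · refine ⟨k4.1, ?_⟩
        rw [hprod _ _ (by norm_num) (cl_E2.lt _ k4.1), k4.2]; exact hDk)
    rw [c1'] at this
    simp at this
  -- second subgroup
  have c2 := XH.count h hX FA hp hXX E1l cl_E1 rfl 16 7 (by norm_num) (by norm_num)
    (by decide +kernel) (by decide +kernel) (by decide +kernel) (by decide +kernel) (by decide +kernel)
  have e2 : E1l.countP FA = 4 := by decide +kernel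
  rw [hS, e2] at c2
  have c2' : cL t (X * psi t j 16) j E1l = 2 := by omega
  have ha : ∀ k, k ∈ [16, 18, 28, 30] → ¬ IsConj t (X * psi t j k) := by
    intro k hk hDk
    have key : ∀ m ∈ [21, 23, 25, 27], ∀ k ∈ [16, 18, 28, 30],
        [mulS 16 m, mulS 16 (mulS 12 m), mulS 16 k].Nodup ∧
        (mulS 16 m ∈ E1l ∧ mulS 16 (mulS 16 m) = m) ∧
        (mulS 16 (mulS 12 m) ∈ E1l ∧ mulS 16 (mulS 16 (mulS 12 m)) = mulS 12 m) ∧
        (mulS 16 k ∈ E1l ∧ mulS 16 (mulS 16 k) = k) := by decide +kernel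
    obtain ⟨k1, k2, k3, k4⟩ := key m hmL k hk
    have := length_le_cL (t := t) (j := j) (X * psi t j 16) E1l _ k1 cl_E1.nodup (by
      intro n hn
      simp only [List.mem_cons, List.not_mem_nil, or_false] at hn
      rcases hn with rfl | rfl | rfl
      · refine ⟨k2.1, ?_⟩
        rw [hprod _ _ (by norm_num) (cl_E1.lt _ k2.1), k2.2]; exact hD
      · refine ⟨k3.1, ?_⟩
        rw [hprod _ _ (by norm_num) (cl_E1.lt _ k3.1), k3.2]; exact hD2
      · refine ⟨k4.1, ?_⟩
        rw [hprod _ _ (by norm_num) (cl_E1.lt _ k4.1), k4.2]; exact hDk)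
    rw [c2'] at this
    simp at this
  -- what is left among the even codes
  have hleft : ∀ k, k < 32 → k &&& 1 = 0 → IsConj t (X * psi t j k) → k ∈ [0, 2, 12, 14] := by
    intro k hk hk0 hDk
    have hk1 := XH.Dx_sq h hX (by norm_num) hXX' k hk hDk
    have : ∀ k : Fin 32, k.1 &&& 1 = 0 → mulS (mulS (thX k.1) 0) k.1 = 0 →
        k.1 ∈ [0, 2, 12, 14] ∨ k.1 ∈ [4, 6, 8, 10] ∨ k.1 ∈ [16, 18, 28, 30] := by decide +kernel
    rcases this ⟨k, hk⟩ hk0 hk1 with h1 | h1 | h1
    · exact h1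
    · exact absurd hDk (hb k h1)
    · exact absurd hDk (ha k h1)
  -- the last subgroup: `⟨X ψ e⟩ × S₀`
  intro k hk hk0 hDk
  have hke := hleft k hk hk0 hDk
  have hkS : ∀ e ∈ [0, 2, 12, 14], (e &&& 1 = 0 ∧ e < 32 ∧ mulS e e = 0) := by decide +kernel
  obtain ⟨k0, klt, ksq⟩ := hkS k hke
  have hcomm : ∀ n ∈ S0l, psi t j n * (X * psi t j k) = (X * psi t j k) * psi t j n := by
    intro n hn
    have hn0 : ∀ n ∈ S0l, n < 32 ∧ n &&& 1 = 0 ∧ mulS n k = mulS k n := by
      intro n hn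
      have : ∀ k ∈ [0, 2, 12, 14], ∀ n ∈ S0l, n < 32 ∧ n &&& 1 = 0 ∧ mulS n k = mulS k n := by
        decide +kernel
      exact this k hke n hn
    obtain ⟨n1, n2, n3⟩ := hn0 n hn
    have h5 : psi t j n * psi t j k = psi t j k * psi t j n := by
      rw [← psi_mul h _ _ n1 klt, ← psi_mul h _ _ klt n1, n3]
    calc psi t j n * (X * psi t j k) = (psi t j n * X) * psi t j k := by group
      _ = (X * psi t j n) * psi t j k := by rw [hX.comm n n1 n2]
      _ = X * (psi t j n * psi t j k) := by group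
      _ = X * (psi t j k * psi t j n) := by rw [h5]
      _ = (X * psi t j k) * psi t j n := by group
  have c3 := ext_count h FA hp S0l cl_S0 rfl (X * psi t j k) ?_ ?_ ?_ (X * psi t j k) hDk hcomm rfl
  · have e3 : S0l.countP FA = 0 := by decide +kernel
    rw [hS, e3] at c3
    have c3' : cL t (X * psi t j k) j S0l = 6 := by omega
    have := cL_le_length (t := t) (j := j) (X * psi t j k) S0l [0, 2, 12, 14] cl_S0.nodup (by
      intro n hn hDn
      rw [hprod _ _ klt (cl_S0.lt n hn)] at hDn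
      have hn0 : ∀ k ∈ [0, 2, 12, 14], ∀ n ∈ S0l, mulS k n < 32 ∧ mulS k n &&& 1 = 0 ∧
          (mulS k n ∈ [0, 2, 12, 14] → n ∈ [0, 2, 12, 14]) := by decide +kernel
      obtain ⟨n1, n2, n3⟩ := hn0 k hke n hn
      exact n3 (hleft _ n1 n2 hDn))
    rw [c3'] at this
    simp at this
  · intro n hn
    refine ⟨n, hn, ?_⟩
    rw [← hcomm n hn]; group
  · refine ⟨0, by decide +kernel, ?_⟩
    have := XH.sq h hX (by norm_num) hXX' k klt
    rw [this]
    have key : ∀ k ∈ [0, 2, 12, 14], mulS (mulS (thX k) 0) k = 0 := by decide +kernel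
    rw [key k hke]
  · intro n hn
    exact XH.mul_psi_ne h hX k n klt (cl_S0.lt n hn)

/-- `X * X = 1` gives the subgroup of index two. -/
theorem XH.final_inv [Finite G] (hp : ∀ n, n < 32 → (Dc t j n ↔ FA n = true)) (hXX : X * X = 1)
    (q : ℕ) (hq : (Subgroup.centralizer ({t} : Set G)).index = 2 * q) (hqo : Odd q) :
    ∃ K : Subgroup G, K.index = 2 := by
  have hXX' : X * X = psi t j 0 := by rw [hXX, psi_zero]
  have hF : cL t 1 j S0l = 0 := by
    rw [cL_congr (f := FA)]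
    · decide +kernel
    · intro n hn
      rw [one_mul]
      exact hp n (cl_S0.lt n hn)
  have hprod : ∀ s n, s < 32 → n < 32 → X * psi t j s * psi t j n = X * psi t j (mulS s n) := by
    intro s n hs hn
    rw [psi_mul h s n hs hn]; group
  have hcommS : ∀ n ∈ S0l, n < 32 ∧ n &&& 1 = 0 := by decide +kernel
  -- the subgroup `S₀ ∪ y S₀` with no conjugate of `t` is enough
  have final : ∀ y : G, (∀ n ∈ S0l, ∃ m ∈ S0l, y * psi t j n * y⁻¹ = psi t j m) →
      (∃ m ∈ S0l, y * y = psi t j m) → (∀ n ∈ S0l, psi t j n ≠ y) → cL t y j S0l = 0 →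
      ∃ K : Subgroup G, K.index = 2 := by
    intro y h1 h2 h3 h4
    obtain ⟨Q, -, hQc, hQn⟩ := ext_KS h S0l cl_S0 y h1 h2 h3
    refine index_two_of t h.t2 Q 315 1 q h.card (by decide) (by rw [hQc]; rfl) ?_ hqo
    rw [hQn, hF, h4, hq]; ring
  by_cases hodd : ∃ m, m < 32 ∧ m &&& 1 = 1 ∧ IsConj t (X * psi t j m)
  · obtain ⟨m, hm, hm1, hD⟩ := hodd
    have hno := XH.no_even h hX hp hXX m hm hm1 hD
    apply final X
    · intro n hn
      refine ⟨n, hn, ?_⟩
      obtain ⟨n1, n2⟩ := hcommS n hn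
      rw [hX.comm n n1 n2]; group
    · exact ⟨0, by decide +kernel, hXX'⟩
    · intro n hn
      exact XH.ne_psi h hX n (hcommS n hn).1
    · have := cL_le_length (t := t) (j := j) X S0l [] cl_S0.nodup (by
        intro n hn hDn
        exact absurd hDn (hno n (hcommS n hn).1 (hcommS n hn).2))
      simpa using this
  · push Not at hodd
    apply final (X * psi t j 1)
    · intro n hn
      refine ⟨thX (conjS 1 n), ?_, XH.conj_y h hX 1 n (by norm_num) (hcommS n hn).1⟩
      revert n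
      decide +kernel
    · refine ⟨mulS (mulS (thX 1) 0) 1, by decide +kernel, XH.sq h hX (by norm_num) hXX' 1 (by norm_num)⟩
    · intro n hn
      exact XH.mul_psi_ne h hX 1 n (by norm_num) (hcommS n hn).1
    · have := cL_le_length (t := t) (j := j) (X * psi t j 1) S0l [] cl_S0.nodup (by
        intro n hn hDn
        rw [hprod _ _ (by norm_num) (hcommS n hn).1] at hDn
        have hb : ∀ n ∈ S0l, mulS 1 n < 32 ∧ mulS 1 n &&& 1 = 1 := by decide +kernel
        exact absurd hDn (hodd _ (hb n hn).1 (hb n hn).2))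
      simpa using this

/-- `X * X ∈ τ⟨z⟩` gives the subgroup of index two. -/
theorem XH.final_tau [Finite G] (hp : ∀ n, n < 32 → (Dc t j n ↔ FA n = true)) (w : ℕ)
    (hw : w ∈ [2, 14]) (hXX : X * X = psi t j w)
    (q : ℕ) (hq : (Subgroup.centralizer ({t} : Set G)).index = 2 * q) (hqo : Odd q) :
    ∃ K : Subgroup G, K.index = 2 := by
  have hF : cL t 1 j S0l = 0 := by
    rw [cL_congr (f := FA)]
    · decide +kernel
    · intro n hn
      rw [one_mul]
      exact hp n (cl_S0.lt n hn)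
  have hwS : ∀ w ∈ [2, 14], w < 32 ∧ w ∈ S0l ∧ ∀ n ∈ S0l, mulS (mulS (thX n) w) n ≠ 0 := by
    decide +kernel
  obtain ⟨w1, w2, w3⟩ := hwS w hw
  have hcommS : ∀ n ∈ S0l, n < 32 ∧ n &&& 1 = 0 := by decide +kernel
  obtain ⟨Q, -, hQc, hQn⟩ := ext_KS h S0l cl_S0 X (by
      intro n hn
      refine ⟨n, hn, ?_⟩
      obtain ⟨n1, n2⟩ := hcommS n hn
      rw [hX.comm n n1 n2]; group) ⟨w, w2, hXX⟩ (by
      intro n hn
      exact XH.ne_psi h hX n (hcommS n hn).1)
  have h4 : cL t X j S0l = 0 := by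
    have := cL_le_length (t := t) (j := j) X S0l [] cl_S0.nodup (by
      intro n hn hDn
      exact absurd (XH.Dx_sq h hX w1 hXX n (hcommS n hn).1 hDn) (w3 n hn))
    simpa using this
  refine index_two_of t h.t2 Q 315 1 q h.card (by decide) (by rw [hQc]; rfl) ?_ hqo
  rw [hQn, hF, h4, hq]; ring

end X

lemma cnt_KS_F (h : Cfg t j) (F : ℕ → Bool) (hp : ∀ n, n < 32 → (Dc t j n ↔ F n = true))
    (L : List ℕ) (hL : CL L) : cnt t (KS h L hL) = L.countP F := by
  rw [cnt_KS]
  apply cL_congr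
  intro n hn
  rw [one_mul]
  exact hp n (hL.lt n hn)

/-- An element commuting with `t` and the four generators is a code in `⟨t⟩ × ⟨τ, z⟩`. -/
theorem central_elt (h : Cfg t j) (W : G) (ht : W * t = t * W)
    (c2 : W * psi t j 2 = psi t j 2 * W) (c4 : W * psi t j 4 = psi t j 4 * W)
    (c8 : W * psi t j 8 = psi t j 8 * W) (c16 : W * psi t j 16 = psi t j 16 * W) :
    ∃ c ∈ [0, 2, 12, 14], W = psi t j c ∨ W = psi t j (mulS 1 c) := by
  obtain ⟨π, hπ⟩ := h.surj W ht
  have key : ∀ s : P7, W * j s = j s * W → π * s = s * π := by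
    intro s hs
    apply h.inj
    rw [map_mul, map_mul]
    rcases hπ with e | e
    · rw [e] at hs; exact hs
    · rw [e] at hs
      have h5 : t * (j π * j s) = t * (j s * j π) := by
        calc t * (j π * j s) = t * j π * j s := by group
          _ = j s * (t * j π) := hs
          _ = (j s * t) * j π := by group
          _ = (t * j s) * j π := by rw [h.comm]
          _ = t * (j s * j π) := by group
      exact mul_left_cancel h5
  have e2 : psi t j 2 = j tau := by rw [psi_even 2 (by decide), toP_2]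
  have e4 : psi t j 4 = j u := by rw [psi_even 4 (by decide), toP_4]
  have e8 : psi t j 8 = j uz := by rw [psi_even 8 (by decide), toP_8]
  have e16 : psi t j 16 = j b := by rw [psi_even 16 (by decide), toP_16]
  rw [e2] at c2
  rw [e4] at c4
  rw [e8] at c8
  rw [e16] at c16
  obtain ⟨x, hx⟩ := centralizer_J3 π (pcomm_of_commute (key _ c4)) (pcomm_of_commute (key _ c8))
    (pcomm_of_commute (key _ c2))
  have hb := pcomm_of_commute (key _ c16)
  rw [hx] at hb
  have key2 : ∀ x : Fin 8, pcomm (toP (2 * x.1)) b →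
      2 * x.1 ∈ [0, 2, 12, 14] ∧ 2 * x.1 &&& 1 = 0 ∧ mulS 1 (2 * x.1) &&& 1 = 1 ∧
      toP (mulS 1 (2 * x.1)) = toP (2 * x.1) := by decide +kernel
  obtain ⟨k1, k2, k3, k4⟩ := key2 x hb
  refine ⟨2 * x.1, k1, ?_⟩
  rcases hπ with e | e
  · left; rw [e, hx, psi_even _ k2]
  · right; rw [e, hx, psi_odd _ k3, k4]

/-- Case (A). -/
theorem caseA [Finite G] (h : Cfg t j) (hp : ∀ n, n < 32 → (Dc t j n ↔ FA n = true)) (x : G)
    (hx : Nrm t j x) (hxt : x * t * x⁻¹ = psi t j 13) (hxτ : x * psi t j 2 * x⁻¹ = psi t j 2) :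
    ∃ K : Subgroup G, K.index = 2 := by
  set N := (Subgroup.centralizer ({t} : Set G)).index with hN
  -- the parity of `N`
  by_cases hodd : N % 2 = 1
  · have hle := cnt_le_index t (KS h Hcl cl_Hc)
    rw [cnt_KS_F h FA hp, ← hN] at hle
    have e : Hcl.countP FA = 4 := by decide +kernel
    rw [e] at hle
    refine index_two_of t h.t2 (KS h Hcl cl_Hc) 315 0 (N - 4) h.card (by decide)
      (by rw [card_KS]; rfl) ?_ ?_
    · rw [cnt_KS_F h FA hp, e, ← hN]; omega
    · rw [Nat.odd_iff]; omega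
  by_cases h4 : N % 4 = 0
  · have hle := cnt_le_index t (KS h Sl cl_S)
    rw [cnt_KS_F h FA hp, ← hN] at hle
    have e : Sl.countP FA = 6 := by decide +kernel
    rw [e] at hle
    refine index_two_of t h.t2 (KS h Sl cl_S) 315 1 ((N - 6) / 2) h.card (by decide)
      (by rw [card_KS]; rfl) ?_ ?_
    · rw [cnt_KS_F h FA hp, e, ← hN]; omega
    · rw [Nat.odd_iff]; omega
  have hq : N = 2 * (N / 2) := by omega
  have hqo : Odd (N / 2) := by rw [Nat.odd_iff]; omega
  -- the action of `x`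
  have hz := nrm_fix_z h hx
  have hρ := rho5_lemma h x hxt hz
  have hxt' : x * psi t j 1 * x⁻¹ = psi t j 13 := by rw [psi_one]; exact hxt
  obtain ⟨v, hv, ev⟩ := hx.fwd 16 (by norm_num)
  obtain ⟨w, hw, ew⟩ := hx.fwd 6 (by norm_num)
  have hDF : ∀ {a b : ℕ}, a < 32 → b < 32 → x * psi t j a * x⁻¹ = psi t j b → FA a = true →
      FA b = true := fun ha hb e hF => (hp _ hb).1 ((Dc_conj e).1 ((hp _ ha).2 hF))
  have hinj : ∀ {a b c : ℕ}, a < 32 → c < 32 → x * psi t j a * x⁻¹ = psi t j b →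
      x * psi t j c * x⁻¹ = psi t j b → a = c := by
    intro a b c ha hc e1 e2
    have : x * psi t j a * x⁻¹ = x * psi t j c * x⁻¹ := by rw [e1, e2]
    exact psi_inj h _ _ ha hc (by simpa using this)
  have hvL : v = 16 ∨ v = 28 := by
    have c1 := rho5_comm h x hρ 16 v (by norm_num) hv (by decide +kernel) ev
    have hb : ∀ v : Fin 32, pcomm (toP v.1) rho5 → v.1 &&& 2 = 0 := by decide +kernel
    have c2 := hb ⟨v, hv⟩ c1
    have c3 := conj_mulS h (a := 1) (b := 16) (a' := 13) (b' := v) (by norm_num) (by norm_num)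
      (by norm_num) hv hxt' ev
    have c4 : FA (mulS 13 v) = true := hDF (mulS_lt ⟨1, by norm_num⟩ ⟨16, by norm_num⟩)
      (mulS_lt ⟨13, by norm_num⟩ ⟨v, hv⟩) c3 (by decide +kernel)
    have c5 : v ≠ 12 := by
      rintro rfl
      exact absurd (hinj (by norm_num) (by norm_num) ev hz) (by norm_num)
    have c6 : v ≠ 0 := by
      rintro rfl
      rw [psi_zero] at ev
      have e1 : x * psi t j 0 * x⁻¹ = psi t j 0 := by rw [psi_zero]; group
      have e2 : x * psi t j 16 * x⁻¹ = psi t j 0 := by rw [ev, psi_zero]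
      exact absurd (hinj (by norm_num) (by norm_num) e2 e1) (by norm_num)
    have key : ∀ v : Fin 32, v.1 &&& 2 = 0 → FA (mulS 13 v.1) = true → v.1 ≠ 12 → v.1 ≠ 0 →
        v.1 = 16 ∨ v.1 = 28 := by decide +kernel
    exact key ⟨v, hv⟩ c2 c4 c5 c6
  have hwL : w = 6 ∨ w = 10 := by
    have c3 := conj_mulS h (a := 1) (b := 6) (a' := 13) (b' := w) (by norm_num) (by norm_num)
      (by norm_num) hw hxt' ew
    have c4 : FA (mulS 13 w) = true := hDF (mulS_lt ⟨1, by norm_num⟩ ⟨6, by norm_num⟩)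
      (mulS_lt ⟨13, by norm_num⟩ ⟨w, hw⟩) c3 (by decide +kernel)
    have c5 : mulS v w ≠ mulS w v := by
      intro e
      have e1 := conj_mulS h (a := 16) (b := 6) (a' := v) (b' := w) (by norm_num) (by norm_num) hv hw ev ew
      have e2 := conj_mulS h (a := 6) (b := 16) (a' := w) (b' := v) (by norm_num) (by norm_num) hw hv ew ev
      rw [e] at e1
      have := hinj (mulS_lt ⟨16, by norm_num⟩ ⟨6, by norm_num⟩) (mulS_lt ⟨6, by norm_num⟩ ⟨16, by norm_num⟩) e1 e2
      exact absurd this (by decide +kernel)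
    have key : ∀ v ∈ [16, 28], ∀ w : Fin 32, FA (mulS 13 w.1) = true → mulS v w.1 ≠ mulS w.1 v →
        w.1 = 6 ∨ w.1 = 10 := by decide +kernel
    exact key v (by rcases hvL with rfl | rfl <;> decide) ⟨w, hw⟩ c4 c5
  -- the adjusting element
  have key : ∀ v ∈ [16, 28], ∀ w ∈ [6, 10], ∃ s : Fin 32, s.1 &&& 1 = 0 ∧ conjS s.1 16 = v ∧
      conjS s.1 6 = w ∧ conjS s.1 13 = 13 ∧ conjS s.1 2 = 2 := by decide +kernel
  obtain ⟨s, s0, s16, s6, s13, s2⟩ := key v (by rcases hvL with rfl | rfl <;> decide) w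
    (by rcases hwL with rfl | rfl <;> decide)
  have hs := s.2
  set X' := (psi t j s.1)⁻¹ * x with hX'
  have hfix : ∀ n, n < 32 → x * psi t j n * x⁻¹ = psi t j (conjS s.1 n) →
      X' * psi t j n * X'⁻¹ = psi t j n := by
    intro n hn e
    rw [hX']
    calc (psi t j s.1)⁻¹ * x * psi t j n * ((psi t j s.1)⁻¹ * x)⁻¹
        = (psi t j s.1)⁻¹ * (x * psi t j n * x⁻¹) * psi t j s.1 := by group
      _ = (psi t j s.1)⁻¹ * (psi t j s.1 * psi t j n * (psi t j s.1)⁻¹) * psi t j s.1 := by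
          rw [e, psi_conjS h s.1 n hs hn]
      _ = psi t j n := by group
  have f16 := hfix 16 (by norm_num) (by rw [s16]; exact ev)
  have f6 := hfix 6 (by norm_num) (by rw [s6]; exact ew)
  have f2 := hfix 2 (by norm_num) (by rw [s2]; exact hxτ)
  have f4 : X' * psi t j 4 * X'⁻¹ = psi t j 4 := by
    have := conj_mulS h (a := 6) (b := 2) (a' := 6) (b' := 2) (by norm_num) (by norm_num)
      (by norm_num) (by norm_num) f6 f2
    have e : mulS 6 2 = 4 := by decide +kernel
    rwa [e] at this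
  have c16 : Commute X' (psi t j 16) := mul_inv_eq_iff_eq_mul.1 f16
  have c4 : Commute X' (psi t j 4) := mul_inv_eq_iff_eq_mul.1 f4
  have c2 : Commute X' (psi t j 2) := mul_inv_eq_iff_eq_mul.1 f2
  have c8 : Commute X' (psi t j 8) := by
    have e := psi_conjS h 16 4 (by norm_num) (by norm_num)
    have e' : conjS 16 4 = 8 := by decide +kernel
    rw [e'] at e
    rw [← e]
    exact (c16.mul_right c4).mul_right c16.inv_right
  have hXH : XH t j X' := by
    refine ⟨fun n hn hn0 => comm_even h X' c2 c4 c8 c16 n hn hn0, ?_⟩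
    rw [hX']
    calc (psi t j s.1)⁻¹ * x * t * ((psi t j s.1)⁻¹ * x)⁻¹
        = (psi t j s.1)⁻¹ * (x * t * x⁻¹) * psi t j s.1 := by group
      _ = (psi t j s.1)⁻¹ * psi t j (conjS s.1 13) * psi t j s.1 := by rw [hxt, s13]
      _ = (psi t j s.1)⁻¹ * (psi t j s.1 * psi t j 13 * (psi t j s.1)⁻¹) * psi t j s.1 := by
          rw [psi_conjS h s.1 13 hs (by norm_num)]
      _ = psi t j 13 := by group
  have hW : Commute (X' * X') t := by
    have e13 : thX 13 = 1 := by decide +kernel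
    have h1 : (X' * X') * t * (X' * X')⁻¹ = t := by
      calc (X' * X') * t * (X' * X')⁻¹ = X' * (X' * t * X'⁻¹) * X'⁻¹ := by group
        _ = X' * psi t j 13 * X'⁻¹ := by rw [hXH.tz]
        _ = t := by rw [XH.conj h hXH 13 (by norm_num), e13, psi_one]
    exact mul_inv_eq_iff_eq_mul.1 h1
  obtain ⟨c, hc, hWc⟩ := central_elt h (X' * X') hW (c2.mul_left c2) (c4.mul_left c4)
    (c8.mul_left c8) (c16.mul_left c16)
  have hcS : ∀ c ∈ [0, 2, 12, 14], c < 32 ∧ mulS 1 c < 32 ∧ thX (mulS 1 c) ≠ mulS 1 c := by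
    decide +kernel
  obtain ⟨c1, c1', c1''⟩ := hcS c hc
  have hWc' : X' * X' = psi t j c := by
    rcases hWc with e | e
    · exact e
    · exfalso
      apply c1''
      apply psi_inj h _ _ (thX_lt ⟨_, c1'⟩) c1'
      rw [← XH.conj h hXH _ c1', ← e]; group
  simp only [List.mem_cons, List.not_mem_nil, or_false] at hc
  rcases hc with rfl | rfl | rfl | rfl
  · exact XH.final_inv h hXH hp (by rw [hWc', psi_zero]) (N / 2) hq hqo
  · exact XH.final_tau h hXH hp 2 (by decide) hWc' (N / 2) hq hqo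
  · -- replace `X'` by `X' t`
    have hXH2 : XH t j (X' * t) := by
      constructor
      · intro n hn hn0
        have h5 := psi_comm_t h n hn
        rw [mul_assoc, ← h5, ← mul_assoc, hXH.comm n hn hn0, mul_assoc]
      · calc X' * t * t * (X' * t)⁻¹ = X' * t * X'⁻¹ := by group
          _ = psi t j 13 := hXH.tz
    have hsq := XH.sq h hXH (w := 12) (by norm_num) hWc' 1 (by norm_num)
    have e1 : mulS (mulS (thX 1) 12) 1 = 0 := by decide +kernel
    rw [e1, psi_zero, psi_one] at hsq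
    exact XH.final_inv h hXH2 hp hsq (N / 2) hq hqo
  · exact XH.final_tau h hXH hp 14 (by decide) hWc' (N / 2) hq hqo

end Cfsg.Agent.Lib.CS67.Cfg7
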