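import Cfsg.Agent.Lib.CS67.CaseC7d

/-! Case (C), fifth part: three commuting elements. -/

set_option autoImplicit false
set_option maxRecDepth 100000

namespace Cfsg.Agent.Lib.CS67.Cfg7

open Cfsg.Agent.Lib.CS67.Sign Cfsg.Agent.Lib.CS67.Local Cfsg.Agent.Lib.CS67.Perm7

variable {G : Type*} [Group G] {t : G} {j : P7 →* G}

/-- A good choice of `r`. -/
theorem exists_good_r [Finite G] (h : Cfg t j) (hp : ∀ n, n < 32 → (Dc t j n ↔ FC n = true)) :
    ∃ r, RH t j r ∧ (j pi0 * r * (j pi0)⁻¹) * r = r * (j pi0 * r * (j pi0)⁻¹) := by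
  obtain ⟨r, hr⟩ := exists_r3 h hp
  rcases comm_r1_r hp h hr with e | e
  · refine ⟨r, hr, ?_⟩
    have := mul_inv_eq_one.1 e
    exact mul_inv_eq_iff_eq_mul.1 this
  · have hP : j pi0 * t = t * j pi0 := h.comm pi0
    have hr' : RH t j (t * r) := by
      constructor
      · intro n hn hn0
        rw [mul_assoc, hr.comm n hn hn0, ← mul_assoc, ← mul_assoc, ← psi_comm_t h n hn]
      · calc t * r * t * (t * r)⁻¹ = t * (r * t * r⁻¹) * t⁻¹ := by group
          _ = t * psi t j 3 * t⁻¹ := by rw [hr.tt]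
          _ = psi t j 3 := by rw [← psi_comm_t h 3 (by norm_num)]; group
    refine ⟨t * r, hr', ?_⟩
    set r1 := j pi0 * r * (j pi0)⁻¹ with hr1
    have e1 : j pi0 * (t * r) * (j pi0)⁻¹ = t * r1 := by
      rw [hr1]
      calc j pi0 * (t * r) * (j pi0)⁻¹ = (j pi0 * t) * r * (j pi0)⁻¹ := by group
        _ = (t * j pi0) * r * (j pi0)⁻¹ := by rw [hP]
        _ = t * (j pi0 * r * (j pi0)⁻¹) := by group
    rw [e1]
    have a1 : r1 * t * r1⁻¹ = psi t j 5 := by
      have := RH.a1 h hr 1 (by norm_num)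
      have e : L1 1 = 5 := by decide +kernel
      rw [e, psi_one] at this
      exact this
    have h1 : r1 * t = psi t j 5 * r1 := mul_inv_eq_iff_eq_mul.1 a1
    have h3 : r * t = psi t j 3 * r := mul_inv_eq_iff_eq_mul.1 hr.tt
    have h5 : r1 * r = psi t j 6 * r * r1 := by
      rw [← e]; group
    have t5 : t * psi t j 5 = psi t j 4 := by
      rw [t_mul_psi h 5 (by norm_num)]; rfl
    have t3 : t * psi t j 3 = psi t j 2 := by
      rw [t_mul_psi h 3 (by norm_num)]; rfl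
    have p46 : psi t j 4 * psi t j 6 = psi t j 2 := by
      rw [← psi_mul h 4 6 (by norm_num) (by norm_num)]; rfl
    calc t * r1 * (t * r) = t * (r1 * t) * r := by group
      _ = t * (psi t j 5 * r1) * r := by rw [h1]
      _ = (t * psi t j 5) * (r1 * r) := by group
      _ = psi t j 4 * (psi t j 6 * r * r1) := by rw [t5, h5]
      _ = (psi t j 4 * psi t j 6) * r * r1 := by group
      _ = psi t j 2 * r * r1 := by rw [p46]
      _ = (t * psi t j 3) * r * r1 := by rw [t3]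
      _ = t * (psi t j 3 * r) * r1 := by group
      _ = t * (r * t) * r1 := by rw [h3]
      _ = t * r * (t * r1) := by group

/-- Three commuting elements acting on `E₁` by translations. -/
structure RR (t : G) (j : P7 →* G) (r1 r2 r3 : G) : Prop where
  c12 : r1 * r2 = r2 * r1
  c13 : r1 * r3 = r3 * r1
  c23 : r2 * r3 = r3 * r2
  a1 : ∀ n, n < 16 → r1 * psi t j n * r1⁻¹ = psi t j (L1 n)
  a2 : ∀ n, n < 16 → r2 * psi t j n * r2⁻¹ = psi t j (L2 n)
  a3 : ∀ n, n < 16 → r3 * psi t j n * r3⁻¹ = psi t j (L3 n)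
  rh : RH t j r3
  b1 : psi t j 16 * r1 * (psi t j 16)⁻¹ = r2
  b2 : psi t j 16 * r2 * (psi t j 16)⁻¹ = r1
  sq : (r1 * r1 = 1 ∧ r2 * r2 = 1 ∧ r3 * r3 = 1) ∨
    (r1 * r1 = psi t j 4 ∧ r2 * r2 = psi t j 8 ∧ r3 * r3 = psi t j 2)

lemma psi16_inv (h : Cfg t j) : (psi t j 16)⁻¹ = psi t j 16 := by
  apply inv_eq_of_mul_eq_one_left
  rw [← psi_mul h 16 16 (by norm_num) (by norm_num)]
  have : mulS 16 16 = 0 := by decide +kernel
  rw [this, psi_zero]

theorem exists_RR [Finite G] (h : Cfg t j) (hp : ∀ n, n < 32 → (Dc t j n ↔ FC n = true)) :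
    ∃ r1 r2 r3, RR t j r1 r2 r3 := by
  obtain ⟨r, hr, hc⟩ := exists_good_r h hp
  set r1 := j pi0 * r * (j pi0)⁻¹ with hr1
  set r2 := psi t j 16 * r1 * (psi t j 16)⁻¹ with hr2
  have hB := psi16_inv h
  have hPi := P_inv (t := t) h
  have a3 : ∀ n, n < 16 → r * psi t j n * r⁻¹ = psi t j (L3 n) := RH.a3 h hr
  have a1 : ∀ n, n < 16 → r1 * psi t j n * r1⁻¹ = psi t j (L1 n) := RH.a1 h hr
  have c16 : ∀ n, n < 16 → psi t j 16 * psi t j n * (psi t j 16)⁻¹ = psi t j (conjS 16 n) := fun n hn =>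
    psi_conjS h 16 n (by norm_num) (by omega)
  have c16lt : ∀ n, n < 16 → conjS 16 n < 16 := fun n hn =>
    (LA_facts.2.2.2.2.2.2.1 ⟨n, hn⟩).1
  have a2 : ∀ n, n < 16 → r2 * psi t j n * r2⁻¹ = psi t j (L2 n) := by
    intro n hn
    have e1 : (psi t j 16)⁻¹ * psi t j n * psi t j 16 = psi t j (conjS 16 n) := by
      have := c16 n hn
      rw [hB] at this ⊢
      exact this
    have l1 := c16lt n hn
    have l2 := (LA_facts.2.1 ⟨_, l1⟩).1
    have e2 := a1 _ l1
    have e3' := c16 _ l2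
    rw [LA_facts.2.2.2.2.2.2.2.1 ⟨n, hn⟩] at e3'
    rw [hr2]
    calc psi t j 16 * r1 * (psi t j 16)⁻¹ * psi t j n * (psi t j 16 * r1 * (psi t j 16)⁻¹)⁻¹
        = psi t j 16 * (r1 * ((psi t j 16)⁻¹ * psi t j n * psi t j 16) * r1⁻¹) * (psi t j 16)⁻¹ := by group
      _ = psi t j (L2 n) := by rw [e1, e2, e3']
  have hrb : r * psi t j 16 = psi t j 16 * r := hr.comm 16 (by norm_num) (by decide)
  have c23 : r2 * r = r * r2 := by
    rw [hr2]
    calc psi t j 16 * r1 * (psi t j 16)⁻¹ * r = psi t j 16 * r1 * ((psi t j 16)⁻¹ * r) := by group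
      _ = psi t j 16 * r1 * (r * (psi t j 16)⁻¹) := by
          rw [hB, hrb]
      _ = psi t j 16 * (r1 * r) * (psi t j 16)⁻¹ := by group
      _ = psi t j 16 * (r * r1) * (psi t j 16)⁻¹ := by rw [hc]
      _ = (psi t j 16 * r) * r1 * (psi t j 16)⁻¹ := by group
      _ = (r * psi t j 16) * r1 * (psi t j 16)⁻¹ := by rw [hrb]
      _ = r * (psi t j 16 * r1 * (psi t j 16)⁻¹) := by group
  -- squares
  have hsq3 := RH.sq_code h hp hr
  obtain ⟨s3, hs3, es3⟩ : ∃ s, (s = 0 ∨ s = 2) ∧ r * r = psi t j s := by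
    rcases hsq3 with e | e
    · exact ⟨0, Or.inl rfl, e⟩
    · exact ⟨2, Or.inr rfl, e⟩
  have es1 : r1 * r1 = psi t j (LP s3) := by
    rw [← cP h s3 (by omega), ← es3, hr1]; group
  have es2 : r2 * r2 = psi t j (conjS 16 (LP s3)) := by
    have l : LP s3 < 16 := by rcases hs3 with rfl | rfl <;> decide +kernel
    rw [← c16 _ l, ← es1, hr2]; group
  -- `r₁` and `r₂` commute
  have c12 : r1 * r2 = r2 * r1 := by
    set r2' := j pi0 * r2 * (j pi0)⁻¹ with hr2'
    have a2' : ∀ n, n < 16 → r2' * psi t j n * r2'⁻¹ = psi t j (L2 n) := by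
      intro n hn
      have e1 := conj_inv_lin (cP h) (fun n => (LA_facts.1 n).1) (fun n => (LA_facts.1 n).2) n hn
      have l1 := (LA_facts.1 ⟨n, hn⟩).1
      have e2 := a2 _ l1
      have l2 := (LA_facts.2.2.1 ⟨_, l1⟩).1
      have e3' := cP h _ l2
      rw [LA_facts.2.2.2.2.2.1 ⟨n, hn⟩] at e3'
      rw [hr2']
      calc j pi0 * r2 * (j pi0)⁻¹ * psi t j n * (j pi0 * r2 * (j pi0)⁻¹)⁻¹
          = j pi0 * (r2 * ((j pi0)⁻¹ * psi t j n * j pi0) * r2⁻¹) * (j pi0)⁻¹ := by group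
        _ = psi t j (L2 n) := by rw [e1, e2, e3']
    have gE : ∀ n, n < 16 → (r2⁻¹ * r2') * psi t j n = psi t j n * (r2⁻¹ * r2') := by
      intro n hn
      have e1 := conj_inv_lin a2 (fun n => (LA_facts.2.2.1 n).1) (fun n => (LA_facts.2.2.1 n).2)
      have l := (LA_facts.2.2.1 ⟨n, hn⟩).1
      have : (r2⁻¹ * r2') * psi t j n * (r2⁻¹ * r2')⁻¹ = psi t j n := by
        calc (r2⁻¹ * r2') * psi t j n * (r2⁻¹ * r2')⁻¹ = r2⁻¹ * (r2' * psi t j n * r2'⁻¹) * r2 := by group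
          _ = psi t j (L2 (L2 n)) := by rw [a2' n hn, e1 _ l]
          _ = psi t j n := by rw [(LA_facts.2.2.1 ⟨n, hn⟩).2]
      exact mul_inv_eq_iff_eq_mul.1 this
    obtain ⟨n₀, hn₀, e₀⟩ := E1_centralizer h _ (by
      have := gE 1 (by norm_num)
      rwa [psi_one] at this) (gE 2 (by norm_num)) (gE 4 (by norm_num)) (gE 8 (by norm_num))
    have er2' : r2' = r2 * psi t j n₀ := by
      rw [← e₀]; group
    -- squares force `n₀` even
    have hn₀0 : n₀ &&& 1 = 0 := by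
      have l : LP s3 < 16 := by rcases hs3 with rfl | rfl <;> decide +kernel
      have l' : conjS 16 (LP s3) < 16 := c16lt _ l
      have fixP : LP (conjS 16 (LP s3)) = conjS 16 (LP s3) := by
        rcases hs3 with rfl | rfl <;> decide +kernel
      have e1 : r2' * r2' = psi t j (conjS 16 (LP s3)) := by
        have := cP h _ l'
        rw [fixP, ← es2] at this
        calc r2' * r2' = j pi0 * (r2 * r2) * (j pi0)⁻¹ := by rw [hr2']; group
          _ = r2 * r2 := this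
          _ = psi t j (conjS 16 (LP s3)) := es2
      have l2 : L2 n₀ < 16 := (LA_facts.2.2.1 ⟨n₀, hn₀⟩).1
      have l2' : L2 n₀ < 32 := lt_trans l2 (by norm_num)
      have l3 : conjS 16 (LP s3) < 32 := lt_trans l' (by norm_num)
      have l4 : n₀ < 32 := by omega
      have e2 : r2' * r2' = psi t j (mulS (mulS (L2 n₀) (conjS 16 (LP s3))) n₀) := by
        rw [er2', psi_mul h _ _ (mulS_lt ⟨_, l2'⟩ ⟨_, l3⟩) l4, psi_mul h _ _ l2' l3, ← a2 n₀ hn₀, ← es2]
        group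
      have e3' := e1.symm.trans e2
      have h3 := psi_inj h _ _ l3 (mulS_lt ⟨_, mulS_lt ⟨_, l2'⟩ ⟨_, l3⟩⟩ ⟨n₀, l4⟩) e3'
      have key : ∀ s ∈ [0, 2], ∀ n : Fin 16, conjS 16 (LP s) = mulS (mulS (L2 n.1) (conjS 16 (LP s))) n.1 →
          n.1 &&& 1 = 0 := by decide +kernel
      exact key s3 (by rcases hs3 with rfl | rfl <;> decide) ⟨n₀, hn₀⟩ h3
    have c0 : r1 * psi t j n₀ = psi t j n₀ * r1 := by
      have := a1 n₀ hn₀
      have key : ∀ n : Fin 16, n.1 &&& 1 = 0 → L1 n.1 = n.1 := by decide +kernel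
      rw [key ⟨n₀, hn₀⟩ hn₀0] at this
      exact mul_inv_eq_iff_eq_mul.1 this
    have c1 : r1 * r2' = r2' * r1 := by
      rw [hr2', hr1]
      have c23' : r * r2 = r2 * r := c23.symm
      calc j pi0 * r * (j pi0)⁻¹ * (j pi0 * r2 * (j pi0)⁻¹) = j pi0 * (r * r2) * (j pi0)⁻¹ := by group
        _ = j pi0 * (r2 * r) * (j pi0)⁻¹ := by rw [c23']
        _ = j pi0 * r2 * (j pi0)⁻¹ * (j pi0 * r * (j pi0)⁻¹) := by group
    rw [er2'] at c1
    have h2 : (r1 * r2) * psi t j n₀ = (r2 * r1) * psi t j n₀ := by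
      calc (r1 * r2) * psi t j n₀ = r1 * (r2 * psi t j n₀) := by group
        _ = r2 * psi t j n₀ * r1 := c1
        _ = r2 * (psi t j n₀ * r1) := by group
        _ = r2 * (r1 * psi t j n₀) := by rw [c0]
        _ = (r2 * r1) * psi t j n₀ := by group
    exact mul_right_cancel h2
  refine ⟨r1, r2, r, ⟨c12, hc, c23, a1, a2, a3, hr, rfl, ?_, ?_⟩⟩
  · rw [hr2]
    calc psi t j 16 * (psi t j 16 * r1 * (psi t j 16)⁻¹) * (psi t j 16)⁻¹
        = (psi t j 16 * psi t j 16) * r1 * ((psi t j 16)⁻¹ * (psi t j 16)⁻¹) := by group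
      _ = r1 := by
          rw [hB, ← psi_mul h 16 16 (by norm_num) (by norm_num)]
          have : mulS 16 16 = 0 := by decide +kernel
          rw [this, psi_zero]; group
  · rcases hs3 with rfl | rfl
    · left
      refine ⟨?_, ?_, ?_⟩
      · rw [es1]
        have : LP 0 = 0 := by decide +kernel
        rw [this, psi_zero]
      · rw [es2]
        have : conjS 16 (LP 0) = 0 := by decide +kernel
        rw [this, psi_zero]
      · rw [es3, psi_zero]
    · right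
      refine ⟨?_, ?_, es3⟩
      · rw [es1]; rfl
      · rw [es2]; rfl

end Cfsg.Agent.Lib.CS67.Cfg7
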