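import Cfsg.Agent.Lib.CS67.CaseC7e

/-! Case (C), last part: the subgroups of order 64 giving the subgroup of index two. -/

set_option autoImplicit false
set_option maxRecDepth 100000

namespace Cfsg.Agent.Lib.CS67.Cfg7

open Cfsg.Agent.Lib.CS67.Sign Cfsg.Agent.Lib.CS67.Local Cfsg.Agent.Lib.CS67.Perm7

variable {G : Type*} [Group G] {t : G} {j : P7 →* G}

/-- `8` divides the index of the centralizer. -/
theorem eight_dvd [Finite G] (h : Cfg t j) {r1 r2 r3 : G} (R : RR t j r1 r2 r3) :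
    8 ∣ (Subgroup.centralizer ({t} : Set G)).index := by
  let OL : List ℕ := [1, 3, 5, 7, 9, 11, 13, 15]
  let O := psiSet t j OL
  let K : Subgroup G := setStab O
  have hOc : Nat.card O = 8 := card_psiSet h OL (by decide +kernel) (by decide +kernel)
  have hlt : ∀ n ∈ OL, n < 16 := by decide +kernel
  have h1K : r1 ∈ K := mem_setStab_psiSet r1 OL L1 (fun n hn => ⟨by
    have : ∀ n ∈ OL, L1 n ∈ OL := by decide +kernel
    exact this n hn, R.a1 n (hlt n hn)⟩)
  have h2K : r2 ∈ K := mem_setStab_psiSet r2 OL L2 (fun n hn => ⟨by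
    have : ∀ n ∈ OL, L2 n ∈ OL := by decide +kernel
    exact this n hn, R.a2 n (hlt n hn)⟩)
  have h3K : r3 ∈ K := mem_setStab_psiSet r3 OL L3 (fun n hn => ⟨by
    have : ∀ n ∈ OL, L3 n ∈ OL := by decide +kernel
    exact this n hn, R.a3 n (hlt n hn)⟩)
  have hEK : KS h Sl cl_S ≤ K := by
    rintro _ ⟨n, hn, rfl⟩
    have hnl := mem_Sl.1 hn
    refine mem_setStab_psiSet _ OL (conjS n) (fun m hm => ⟨?_, ?_⟩)
    · have : ∀ n : Fin 32, ∀ m ∈ OL, conjS n.1 m ∈ OL := by decide +kernel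
      exact this ⟨n, hnl⟩ m hm
    · exact psi_conjS h n m hnl (by have := hlt m hm; omega)
  have hact : ∀ (g : G) (A : ℕ → ℕ), (∀ n, n < 16 → g * psi t j n * g⁻¹ = psi t j (A n)) → ∀ n, n < 16 →
      g * psi t j n * g⁻¹ = psi t j (A n) := fun _ _ h => h
  have hdvd := orbit_dvd t K O le_rfl ⟨1, by decide +kernel, psi_one⟩ (by
      rintro _ ⟨n, hn, rfl⟩
      have t1 : ∀ g : G, ∀ m, g * psi t j 1 * g⁻¹ = psi t j m → g * t * g⁻¹ = psi t j m := by
        intro g m e; rwa [psi_one] at e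
      have mul2 : ∀ (g g' : G) (m m' : ℕ), g' * t * g'⁻¹ = psi t j m → g * psi t j m * g⁻¹ = psi t j m' →
          (g * g') * t * (g * g')⁻¹ = psi t j m' := by
        intro g g' m m' e1 e2
        rw [← e2, ← e1]; group
      have a1 := t1 _ _ (R.a1 1 (by norm_num))
      have a2 := t1 _ _ (R.a2 1 (by norm_num))
      have a3 := t1 _ _ (R.a3 1 (by norm_num))
      simp only [OL, List.mem_cons, List.not_mem_nil, or_false] at hn
      rcases hn with rfl | rfl | rfl | rfl | rfl | rfl | rfl | rfl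
      · exact ⟨1, K.one_mem, by rw [psi_one]; group⟩
      · exact ⟨r3, h3K, a3⟩
      · exact ⟨r1, h1K, a1⟩
      · exact ⟨r1 * r3, K.mul_mem h1K h3K, mul2 _ _ _ _ a3 (R.a1 _ (by decide +kernel))⟩
      · exact ⟨r2, h2K, a2⟩
      · exact ⟨r2 * r3, K.mul_mem h2K h3K, mul2 _ _ _ _ a3 (R.a2 _ (by decide +kernel))⟩
      · exact ⟨r1 * r2, K.mul_mem h1K h2K, mul2 _ _ _ _ a2 (R.a1 _ (by decide +kernel))⟩
      · exact ⟨r1 * (r2 * r3), K.mul_mem h1K (K.mul_mem h2K h3K), mul2 _ _ _ _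
          (mul2 _ _ _ _ a3 (R.a2 _ (by decide +kernel))) (R.a1 _ (by decide +kernel))⟩)
    (KS h Sl cl_S) hEK (by
      rintro _ ⟨n, hn, rfl⟩
      exact psi_comm_t h n (mem_Sl.1 hn))
  rw [hOc, card_KS] at hdvd
  have h2 : Nat.card K ∣ Nat.card G := Subgroup.card_subgroup_dvd_card K
  have h3 := (Subgroup.centralizer ({t} : Set G)).card_mul_index
  rw [h.card] at h3
  have h4 := dvd_trans hdvd h2
  rw [← h3] at h4
  have h5 : (Sl.length : ℕ) = 32 := by decide +kernel
  rw [h5] at h4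
  obtain ⟨c, hc⟩ := h4
  exact Nat.dvd_of_mod_eq_zero (by omega)

/-- `r₁ r₂` behaves like `X` in case (A). -/
lemma RR.xh (h : Cfg t j) {r1 r2 r3 : G} (R : RR t j r1 r2 r3) : XH t j (r1 * r2) := by
  have k1 : ∀ n ∈ [2, 4, 8], n < 16 ∧ L1 n = n := by decide +kernel
  have k2 : ∀ n ∈ [2, 4, 8], n < 16 ∧ L2 n = n := by decide +kernel
  have f1 : ∀ n, n ∈ [2, 4, 8] → Commute r1 (psi t j n) := by
    intro n hn
    have := R.a1 n (k1 n hn).1
    rw [(k1 n hn).2] at this
    exact mul_inv_eq_iff_eq_mul.1 this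
  have f2 : ∀ n, n ∈ [2, 4, 8] → Commute r2 (psi t j n) := by
    intro n hn
    have := R.a2 n (k2 n hn).1
    rw [(k2 n hn).2] at this
    exact mul_inv_eq_iff_eq_mul.1 this
  have c16 : Commute (r1 * r2) (psi t j 16) := by
    show r1 * r2 * psi t j 16 = psi t j 16 * (r1 * r2)
    have h1 : psi t j 16 * r1 = r2 * psi t j 16 := mul_inv_eq_iff_eq_mul.1 R.b1
    have h2 : psi t j 16 * r2 = r1 * psi t j 16 := mul_inv_eq_iff_eq_mul.1 R.b2
    calc r1 * r2 * psi t j 16 = r2 * r1 * psi t j 16 := by rw [R.c12]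
      _ = r2 * (r1 * psi t j 16) := by group
      _ = r2 * (psi t j 16 * r2) := by rw [h2]
      _ = (r2 * psi t j 16) * r2 := by group
      _ = (psi t j 16 * r1) * r2 := by rw [h1]
      _ = psi t j 16 * (r1 * r2) := by group
  constructor
  · intro n hn hn0
    exact comm_even h (r1 * r2) ((f1 2 (by decide)).mul_left (f2 2 (by decide)))
      ((f1 4 (by decide)).mul_left (f2 4 (by decide))) ((f1 8 (by decide)).mul_left (f2 8 (by decide)))
      c16 n hn hn0
  · have e2 := R.a2 1 (by norm_num)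
    have e1 := R.a1 (L2 1) (by decide +kernel)
    rw [psi_one] at e2
    have e3 : L1 (L2 1) = 13 := by decide +kernel
    rw [e3] at e1
    rw [← e1, ← e2]; group

/-- Extending a commuting subgroup by a commuting element. -/
lemma ext2_comm (K : Subgroup G) (y : G) (hy : ∀ k ∈ K, y * k * y⁻¹ ∈ K) (hy2 : y * y ∈ K)
    (hK : ∀ a ∈ K, ∀ b ∈ K, a * b = b * a) (hyK : ∀ a ∈ K, y * a = a * y) :
    ∀ a ∈ ext2 K y hy hy2, ∀ b ∈ ext2 K y hy hy2, a * b = b * a := by
  have key : ∀ a : G, a ∈ ext2 K y hy hy2 → y * a = a * y := by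
    rintro a (ha | ha)
    · exact hyK a ha
    · have h1 := hyK _ ha
      calc y * a = y * (y * (y⁻¹ * a)) := by group
        _ = y * ((y⁻¹ * a) * y) := by rw [h1]
        _ = a * y := by group
  rintro a ha b hb
  rcases ha with ha | ha
  · rcases hb with hb | hb
    · exact hK a ha b hb
    · have e : b = y * (y⁻¹ * b) := by group
      rw [e, ← mul_assoc, ← hyK a ha, mul_assoc, hK a ha _ hb]
      group
  · rcases hb with hb | hb
    · have e : a = y * (y⁻¹ * a) := by group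
      rw [e, mul_assoc, hK _ ha b hb, ← mul_assoc, hyK b hb]
      group
    · have e : a = y * (y⁻¹ * a) := by group
      have e' : b = y * (y⁻¹ * b) := by group
      have h1 := hK _ ha _ hb
      have h2 := hyK _ ha
      have h3 := hyK _ hb
      calc a * b = y * (y⁻¹ * a) * (y * (y⁻¹ * b)) := by rw [← e, ← e']
        _ = y * ((y⁻¹ * a) * y) * (y⁻¹ * b) := by group
        _ = y * (y * (y⁻¹ * a)) * (y⁻¹ * b) := by rw [h2]
        _ = y * y * ((y⁻¹ * a) * (y⁻¹ * b)) := by group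
        _ = y * y * ((y⁻¹ * b) * (y⁻¹ * a)) := by rw [h1]
        _ = y * (y * (y⁻¹ * b)) * (y⁻¹ * a) := by group
        _ = y * ((y⁻¹ * b) * y) * (y⁻¹ * a) := by rw [h3]
        _ = y * (y⁻¹ * b) * (y * (y⁻¹ * a)) := by group
        _ = b * a := by rw [← e, ← e']

end Cfsg.Agent.Lib.CS67.Cfg7
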