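import Cfsg.Agent.Lib.CS67.CaseC7g

/-! Case (C), the case where `r₁² = u`, `r₂² = u z`, `r₃² = τ`. -/

set_option autoImplicit false
set_option maxRecDepth 100000

namespace Cfsg.Agent.Lib.CS67.Cfg7

open Cfsg.Agent.Lib.CS67.Sign Cfsg.Agent.Lib.CS67.Local Cfsg.Agent.Lib.CS67.Perm7

variable {G : Type*} [Group G] {t : G} {j : P7 →* G}

/-- The count in `E ∪ (X ψ s) E`, for a code `d` fixed by `X ψ s`, with general square. -/
lemma XH.count' [Finite G] (h : Cfg t j) {X : G} (hX : XH t j X) (F : ℕ → Bool)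
    (hp : ∀ n, n < 32 → (Dc t j n ↔ F n = true)) {w : ℕ} (hw : w < 32)
    (hXX : X * X = psi t j w)
    (L : List ℕ) (hL : CL L) (hlen : L.length = 16) (s d : ℕ) (hs : s < 32) (hd : d < 32)
    (hsL : ∀ n ∈ L, thX (conjS s n) ∈ L) (hsq : mulS (mulS (thX s) w) s ∈ L)
    (hdD : F d = true) (hdL : ∀ n ∈ L, mulS n d = mulS d n) (hds : thX (conjS s d) = d) :
    L.countP F + cL t (X * psi t j s) j L = Sl.countP F := by
  apply ext_count h F hp L hL hlen (X * psi t j s) ?_ ?_ ?_ (psi t j d) ((hp d hd).2 hdD) ?_ ?_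
  · intro n hn
    exact ⟨_, hsL n hn, XH.conj_y h hX s n hs (hL.lt n hn)⟩
  · exact ⟨_, hsq, XH.sq h hX hw hXX s hs⟩
  · intro n hn
    exact XH.mul_psi_ne h hX s n hs (hL.lt n hn)
  · intro n hn
    rw [← psi_mul h _ _ (hL.lt n hn) hd, ← psi_mul h _ _ hd (hL.lt n hn), hdL n hn]
  · have := XH.conj_y h hX s d hs hd
    rw [hds] at this
    exact mul_inv_eq_iff_eq_mul.1 this

/-- The count of the conjugates in `R K₀` for `R = r₁`, `r₁ X`. -/
lemma R_count (h : Cfg t j) {r1 r2 : G} (R : G) (A : ℕ → ℕ)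
    (a1 : ∀ n, n < 16 → r1 * psi t j n * r1⁻¹ = psi t j (L1 n))
    (a2 : ∀ n, n < 16 → r2 * psi t j n * r2⁻¹ = psi t j (L2 n))
    (ha : ∀ n, n < 16 → R * psi t j n * R⁻¹ = psi t j (A n))
    (hR1 : r1 * R = R * r1) (hR2 : r2 * R = R * r2) {w : ℕ} (hw : w < 32) (hw0 : w ≠ 0)
    (hRR : R * R = psi t j w) (hA1lt : A 1 < 32)
    (hAe : ∀ n ∈ [0, 4, 8, 12], A n = n)
    (hAb : ∀ n ∈ [16, 17, 20, 21, 24, 25, 28, 29], conjS n (A 1) < 16 ∧
      A (conjS n (A 1)) < 32 ∧ A (conjS n (A 1)) ≠ 1) :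
    (IsConj t (R * psi t j 1) → cL t R j Hcl = 4) ∧
    (¬ IsConj t (R * psi t j 1) → cL t R j Hcl = 0) := by
  have hconj : ∀ (g : G) (a b : ℕ), g * R = R * g → g * psi t j a * g⁻¹ = psi t j b →
      (IsConj t (R * psi t j a) ↔ IsConj t (R * psi t j b)) := by
    intro g a b hg e
    rw [← e, ← isConj_conj_iff t g (R * psi t j a)]
    have : g * (R * psi t j a) * g⁻¹ = R * (g * psi t j a * g⁻¹) := by
      calc g * (R * psi t j a) * g⁻¹ = (g * R) * psi t j a * g⁻¹ := by group
        _ = (R * g) * psi t j a * g⁻¹ := by rw [hg]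
        _ = R * (g * psi t j a * g⁻¹) := by group
    rw [this]
  have e15 := hconj r1 1 (L1 1) hR1 (a1 1 (by norm_num))
  have e19 := hconj r2 1 (L2 1) hR2 (a2 1 (by norm_num))
  have e913 := hconj r1 9 (L1 9) hR1 (a1 9 (by norm_num))
  have l1 : L1 1 = 5 := by decide +kernel
  have l2 : L2 1 = 9 := by decide +kernel
  have l3 : L1 9 = 13 := by decide +kernel
  rw [l1] at e15
  rw [l2] at e19
  rw [l3] at e913
  have hsup : ∀ n ∈ Hcl, IsConj t (R * psi t j n) → n ∈ [1, 5, 9, 13] := by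
    intro n hn hD
    have hnl := cl_Hc.lt n hn
    have hsq := conj_sq h _ hD
    have cases : ∀ n ∈ Hcl, n ∈ [1, 5, 9, 13] ∨ n ∈ [0, 4, 8, 12] ∨
        n ∈ [16, 17, 20, 21, 24, 25, 28, 29] := by decide +kernel
    rcases cases n hn with c | c | c
    · exact c
    · exfalso
      have hk : ∀ n ∈ [0, 4, 8, 12], n < 16 ∧ mulS n n = 0 := by decide +kernel
      obtain ⟨k1, k2⟩ := hk n c
      have e1 := ha n k1
      rw [hAe n c] at e1
      have hc : R * psi t j n = psi t j n * R := mul_inv_eq_iff_eq_mul.1 e1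
      have e2 : (R * psi t j n) * (R * psi t j n) = psi t j w := by
        calc (R * psi t j n) * (R * psi t j n) = R * (psi t j n * R) * psi t j n := by group
          _ = R * (R * psi t j n) * psi t j n := by rw [hc]
          _ = (R * R) * (psi t j n * psi t j n) := by group
          _ = psi t j w := by
            rw [hRR, ← psi_mul h _ _ hnl hnl, k2, psi_zero, mul_one]
      rw [e2, ← psi_zero (t := t) (j := j)] at hsq
      exact hw0 (psi_inj h _ _ hw (by norm_num) hsq)
    · exfalso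
      obtain ⟨b1, b2, b3⟩ := hAb n c
      have hA1 : R * t * R⁻¹ = psi t j (A 1) := by
        have := ha 1 (by norm_num)
        rwa [psi_one] at this
      have e3 := psi_conjS h n (A 1) hnl hA1lt
      have e4 := ha _ b1
      have hn_t : psi t j n * t * (psi t j n)⁻¹ = t := by
        rw [psi_comm_t h n hnl]; group
      have e6 : t = psi t j (A (conjS n (A 1))) := by
        calc t = ((R * psi t j n) * (R * psi t j n)) * t * ((R * psi t j n) * (R * psi t j n))⁻¹ := by
              rw [hsq]; group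
          _ = R * (psi t j n * (R * (psi t j n * t * (psi t j n)⁻¹) * R⁻¹) * (psi t j n)⁻¹) * R⁻¹ := by group
          _ = psi t j (A (conjS n (A 1))) := by rw [hn_t, hA1, e3, e4]
      have e7 : psi t j (A (conjS n (A 1))) = psi t j 1 := by rw [psi_one]; exact e6.symm
      exact b3 (psi_inj h _ _ b2 (by norm_num) e7)
  constructor
  · intro hD
    rw [cL_congr (y := R) (L := Hcl) (f := fun n => decide (n ∈ [1, 5, 9, 13]))]
    · decide +kernel
    · intro n hn
      rw [decide_eq_true_eq]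
      refine ⟨hsup n hn, fun hm => ?_⟩
      simp only [List.mem_cons, List.not_mem_nil, or_false] at hm
      rcases hm with rfl | rfl | rfl | rfl
      · exact hD
      · exact e15.1 hD
      · exact e19.1 hD
      · exact e913.1 (e19.1 hD)
  · intro hD
    have := cL_le_length (t := t) (j := j) R Hcl [] cl_Hc.nodup (by
      intro n hn hDn
      exfalso
      have hm := hsup n hn hDn
      simp only [List.mem_cons, List.not_mem_nil, or_false] at hm
      rcases hm with rfl | rfl | rfl | rfl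
      · exact hD hDn
      · exact hD (e15.2 hDn)
      · exact hD (e19.2 hDn)
      · exact hD (e19.2 (e913.2 hDn)))
    simpa using this

/-- The case of elements of order four. -/
theorem caseC_k1 [Finite G] (h : Cfg t j) (hp : ∀ n, n < 32 → (Dc t j n ↔ FC n = true))
    {r1 r2 r3 : G} (R : RR t j r1 r2 r3)
    (s1 : r1 * r1 = psi t j 4) (s2 : r2 * r2 = psi t j 8) :
    ∃ K : Subgroup G, K.index = 2 := by
  have h8 := eight_dvd h R
  have hX := R.xh h
  set X := r1 * r2 with hXdef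
  have hXX : X * X = psi t j 12 := by
    rw [hXdef]
    calc r1 * r2 * (r1 * r2) = r1 * (r2 * r1) * r2 := by group
      _ = r1 * (r1 * r2) * r2 := by rw [R.c12]
      _ = (r1 * r1) * (r2 * r2) := by group
      _ = psi t j 12 := by
        rw [s1, s2, ← psi_mul h 4 8 (by norm_num) (by norm_num)]; rfl
  have hS : Sl.countP FC = 12 := by decide +kernel
  have hprod : ∀ s n, s < 32 → n < 32 → X * psi t j s * psi t j n = X * psi t j (mulS s n) := by
    intro s n hs hn
    rw [psi_mul h s n hs hn]; group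
  -- `X` commutes with `r₁`
  have hXr1 : r1 * X = X * r1 := by
    rw [hXdef]
    calc r1 * (r1 * r2) = r1 * (r2 * r1) := by rw [R.c12]
      _ = r1 * r2 * r1 := by group
  have hXr2 : r2 * X = X * r2 := by
    rw [hXdef]
    calc r2 * (r1 * r2) = (r2 * r1) * r2 := by group
      _ = (r1 * r2) * r2 := by rw [R.c12]
  -- the image of `ψ 16`
  have hB := psi16_inv h
  have h4inv : (psi t j 4)⁻¹ = psi t j 4 := by
    apply inv_eq_of_mul_eq_one_left
    rw [← psi_mul h 4 4 (by norm_num) (by norm_num)]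
    have : mulS 4 4 = 0 := by decide +kernel
    rw [this, psi_zero]
  have hr1inv : r1⁻¹ = r1 * psi t j 4 := by
    apply inv_eq_of_mul_eq_one_left
    calc r1 * psi t j 4 * r1 = r1 * ((psi t j 4)⁻¹ * r1) := by rw [h4inv]; group
      _ = r1 * ((r1 * r1)⁻¹ * r1) := by rw [s1]
      _ = 1 := by group
  have hX16 : X * psi t j 16 = psi t j 16 * X :=
    hX.comm 16 (by norm_num) (by decide)
  have hb16 : r1 * psi t j 16 * r1⁻¹ = X * psi t j 24 := by
    have e1 : psi t j 16 * r2 = r1 * psi t j 16 := mul_inv_eq_iff_eq_mul.1 R.b2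
    have e2 : psi t j 24 = psi t j 16 * psi t j 4 := by
      rw [← psi_mul h 16 4 (by norm_num) (by norm_num)]; rfl
    rw [e2, hr1inv, ← e1]
    calc psi t j 16 * r2 * (r1 * psi t j 4) = psi t j 16 * (r2 * r1) * psi t j 4 := by group
      _ = psi t j 16 * (r1 * r2) * psi t j 4 := by rw [R.c12]
      _ = psi t j 16 * X * psi t j 4 := by rw [hXdef]
      _ = X * psi t j 16 * psi t j 4 := by rw [hX16]
      _ = X * (psi t j 16 * psi t j 4) := by group
  -- moving `ψ c` past `X`
  have hpast : ∀ c, c < 32 → psi t j c * X = X * psi t j (thX c) := by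
    intro c hc
    have hc2 : ∀ c : Fin 32, thX (thX c.1) = c.1 := by decide +kernel
    have := XH.conj h hX (thX c) (thX_lt ⟨c, hc⟩)
    rw [hc2 ⟨c, hc⟩] at this
    exact (mul_inv_eq_iff_eq_mul.1 this).symm
  have hbc : ∀ c, c < 16 → r1 * psi t j (mulS c 16) * r1⁻¹ =
      X * psi t j (mulS (thX (L1 c)) 24) := by
    intro c hc
    have l1 : ∀ c : Fin 16, L1 c.1 < 16 ∧ thX (L1 c.1) < 32 := by decide +kernel
    obtain ⟨l2, l3⟩ := l1 ⟨c, hc⟩
    simp only at l2 l3
    rw [psi_mul h _ _ (by omega) (by norm_num), psi_mul h _ _ l3 (by norm_num)]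
    calc r1 * (psi t j c * psi t j 16) * r1⁻¹
        = (r1 * psi t j c * r1⁻¹) * (r1 * psi t j 16 * r1⁻¹) := by group
      _ = psi t j (L1 c) * (X * psi t j 24) := by rw [R.a1 c hc, hb16]
      _ = (psi t j (L1 c) * X) * psi t j 24 := by group
      _ = X * psi t j (thX (L1 c)) * psi t j 24 := by rw [hpast _ (by omega)]
      _ = X * (psi t j (thX (L1 c)) * psi t j 24) := by group
  have hcr1 : ∀ y : G, r1 * (X * y) * r1⁻¹ = X * (r1 * y * r1⁻¹) := by
    intro y
    calc r1 * (X * y) * r1⁻¹ = (r1 * X) * y * r1⁻¹ := by group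
      _ = (X * r1) * y * r1⁻¹ := by rw [hXr1]
      _ = X * (r1 * y * r1⁻¹) := by group
  -- consequences of `hbc`
  have hno : ∀ c, c ∈ [0, 2, 12, 14] → ¬ IsConj t (X * psi t j (mulS (thX (L1 c)) 24)) := by
    intro c hc hD
    have k : ∀ c ∈ [0, 2, 12, 14], c < 16 ∧ mulS c 16 < 32 ∧ FC (mulS c 16) = false := by
      decide +kernel
    obtain ⟨k1, k2, k3⟩ := k c hc
    rw [← hbc c k1, isConj_conj_iff] at hD
    have := (hp _ k2).1 hD
    rw [k3] at this
    exact absurd this (by decide)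
  have hno' : ∀ m, m ∈ [20, 22, 24, 26] → ¬ IsConj t (X * psi t j m) := by
    intro m hm
    have k : ∀ m ∈ [20, 22, 24, 26], ∃ c ∈ [0, 2, 12, 14], mulS (thX (L1 c)) 24 = m := by
      decide +kernel
    obtain ⟨c, hc, e⟩ := k m hm
    rw [← e]
    exact hno c hc
  have hyes : ∀ c, c ∈ [1, 13] → IsConj t (X * psi t j (mulS (thX (L1 c)) 24)) := by
    intro c hc
    have k : ∀ c ∈ [1, 13], c < 16 ∧ mulS c 16 < 32 ∧ FC (mulS c 16) = true := by
      decide +kernel
    obtain ⟨k1, k2, k3⟩ := k c hc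
    rw [← hbc c k1, isConj_conj_iff]
    exact (hp _ k2).2 k3
  -- the count in `E₂ ∪ X ψ 8 E₂`
  have c1 := XH.count' h hX FC hp (w := 12) (by norm_num) hXX E2l cl_E2 rfl 8 17 (by norm_num)
    (by norm_num) (by decide +kernel) (by decide +kernel) (by decide +kernel) (by decide +kernel)
    (by decide +kernel)
  have e1 : E2l.countP FC = 8 := by decide +kernel
  rw [hS, e1] at c1
  have c1' : cL t (X * psi t j 8) j E2l = 4 := by omega
  have hsq8 : ∀ n ∈ E2l, IsConj t (X * psi t j 8 * psi t j n) → n ∈ [13, 15, 1, 3] := by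
    intro n hn hD
    have hnl := cl_E2.lt n hn
    rw [hprod _ _ (by norm_num) hnl] at hD
    have k : ∀ n ∈ E2l, mulS 8 n < 32 := by decide +kernel
    have hs := XH.Dx_sq h hX (w := 12) (by norm_num) hXX _ (k n hn) hD
    have k2 : ∀ n ∈ E2l, mulS (mulS (thX (mulS 8 n)) 12) (mulS 8 n) = 0 →
        n ∈ [13, 15, 1, 3] ∨ mulS 8 n ∈ [20, 22, 24, 26] := by decide +kernel
    rcases k2 n hn hs with a | a
    · exact a
    · exact absurd hD (hno' _ a)
  have D5 : IsConj t (X * psi t j 5) := by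
    by_contra hc
    have := cL_le_length (t := t) (j := j) (X * psi t j 8) E2l [15, 1, 3] cl_E2.nodup (by
      intro n hn hD
      have hm := hsq8 n hn hD
      simp only [List.mem_cons, List.not_mem_nil, or_false] at hm ⊢
      rcases hm with rfl | hm
      · exfalso
        rw [hprod _ _ (by norm_num) (by norm_num)] at hD
        exact hc hD
      · exact hm)
    rw [c1'] at this
    simp at this
  have D9 : IsConj t (X * psi t j 9) := by
    by_contra hc
    have := cL_le_length (t := t) (j := j) (X * psi t j 8) E2l [13, 15, 3] cl_E2.nodup (by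
      intro n hn hD
      have hm := hsq8 n hn hD
      simp only [List.mem_cons, List.not_mem_nil, or_false] at hm ⊢
      rcases hm with rfl | rfl | rfl | rfl
      · left; rfl
      · right; left; rfl
      · exfalso
        rw [hprod _ _ (by norm_num) (by norm_num)] at hD
        exact hc hD
      · right; right; rfl)
    rw [c1'] at this
    simp at this
  have D1 : IsConj t (X * psi t j 1) := by
    have := (isConj_conj_iff t r1 (X * psi t j 5)).2 D5
    rwa [hcr1, R.a1 5 (by norm_num)] at this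
  have D13 : IsConj t (X * psi t j 13) := by
    have := (isConj_conj_iff t r1 (X * psi t j 9)).2 D9
    rwa [hcr1, R.a1 9 (by norm_num)] at this
  have D17 : IsConj t (X * psi t j 17) := by
    have := hyes 1 (by decide)
    have e : mulS (thX (L1 1)) 24 = 17 := by decide +kernel
    rwa [e] at this
  have D29 : IsConj t (X * psi t j 29) := by
    have := hyes 13 (by decide)
    have e : mulS (thX (L1 13)) 24 = 29 := by decide +kernel
    rwa [e] at this
  -- the count for `X`
  have hXc : cL t X j Hcl = 6 := by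
    rw [cL_congr (y := X) (L := Hcl) (f := fun n => decide (n ∈ [1, 5, 9, 13, 17, 29]))]
    · decide +kernel
    · intro n hn
      rw [decide_eq_true_eq]
      constructor
      · intro hD
        have hs := XH.Dx_sq h hX (w := 12) (by norm_num) hXX n (cl_Hc.lt n hn) hD
        have k : ∀ n ∈ Hcl, mulS (mulS (thX n) 12) n = 0 →
            n ∈ [1, 5, 9, 13, 17, 29] ∨ n ∈ [20, 22, 24, 26] := by decide +kernel
        rcases k n hn hs with a | a
        · exact a
        · exact absurd hD (hno' n a)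
      · intro hm
        simp only [List.mem_cons, List.not_mem_nil, or_false] at hm
        rcases hm with rfl | rfl | rfl | rfl | rfl | rfl
        · exact D1
        · exact D5
        · exact D9
        · exact D13
        · exact D17
        · exact D29
  -- the subgroups
  let K₀ := KS h Hcl cl_Hc
  have hy1 : ∀ k ∈ K₀, X * k * X⁻¹ ∈ K₀ := by
    rintro _ ⟨n, hn, rfl⟩
    have k : ∀ n ∈ Hcl, thX n ∈ Hcl := by decide +kernel
    exact ⟨thX n, k n hn, (XH.conj h hX n (cl_Hc.lt n hn)).symm⟩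
  have hy1' : X * X ∈ K₀ := ⟨12, by decide +kernel, hXX.symm⟩
  have hXnot : X ∉ K₀ := by
    rintro ⟨a, ha, e⟩
    exact XH.ne_psi h hX a (cl_Hc.lt a ha) e
  let K₁ := ext2 K₀ X hy1 hy1'
  have hXK₁ : X ∈ K₁ := self_mem_ext2 _ _ _ _
  have h0 : ∀ n ∈ Hcl, r1 * psi t j n * r1⁻¹ ∈ K₁ := by
    intro n hn
    have k : ∀ n ∈ Hcl, (n < 16 ∧ L1 n ∈ Hcl) ∨ (n - 16 < 16 ∧ mulS (n - 16) 16 = n ∧
        mulS (thX (L1 (n - 16))) 24 ∈ Hcl) := by decide +kernel
    rcases k n hn with ⟨k1, k2⟩ | ⟨k1, k2, k3⟩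
    · rw [R.a1 n k1]
      exact le_ext2 _ _ _ _ ⟨_, k2, rfl⟩
    · rw [← k2, hbc _ k1]
      exact K₁.mul_mem hXK₁ (le_ext2 _ _ _ _ ⟨_, k3, rfl⟩)
  have hy2 : ∀ k ∈ K₁, r1 * k * r1⁻¹ ∈ K₁ := by
    rintro k (⟨n, hn, rfl⟩ | hk)
    · exact h0 n hn
    · obtain ⟨n, hn, e⟩ := hk
      have e' : k = X * psi t j n := by rw [e]; group
      rw [e', hcr1]
      exact K₁.mul_mem hXK₁ (h0 n hn)
  have hy2' : r1 * r1 ∈ K₁ := by
    rw [s1]
    exact le_ext2 _ _ _ _ ⟨4, by decide +kernel, rfl⟩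
  have a1t : r1 * t * r1⁻¹ = psi t j 5 := by
    have := R.a1 1 (by norm_num)
    rw [psi_one] at this
    exact this
  have hr1not : r1 ∉ K₁ := by
    rintro (⟨a, ha, e⟩ | ⟨a, ha, e⟩)
    · have hal := cl_Hc.lt a ha
      have h1 : psi t j 5 = psi t j 1 := by
        rw [← a1t, ← e, psi_comm_t h a hal, psi_one]; group
      exact absurd (psi_inj h _ _ (by norm_num) (by norm_num) h1) (by norm_num)
    · have hal := cl_Hc.lt a ha
      have e' : r1 = X * psi t j a := by rw [e]; group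
      have h1 : psi t j 5 = psi t j 13 := by
        rw [← a1t, ← hX.tz]
        nth_rewrite 1 [e']
        nth_rewrite 1 [e']
        have := psi_comm_t h a hal
        calc X * psi t j a * t * (X * psi t j a)⁻¹ = X * (psi t j a * t) * (psi t j a)⁻¹ * X⁻¹ := by group
          _ = X * t * X⁻¹ := by rw [this]; group
      exact absurd (psi_inj h _ _ (by norm_num) (by norm_num) h1) (by norm_num)
  let H := ext2 K₁ r1 hy2 hy2'
  have hHc : Nat.card H = 16 * 2 ^ 2 := by
    show Nat.card (ext2 K₁ r1 hy2 hy2') = _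
    rw [card_ext2 _ _ _ _ hr1not]
    show 2 * Nat.card (ext2 K₀ X hy1 hy1') = _
    rw [card_ext2 _ _ _ _ hXnot]
    show 2 * (2 * Nat.card (KS h Hcl cl_Hc)) = _
    rw [card_KS]
    rfl
  have hcnt : cnt t H = Hcl.countP FC + cL t X j Hcl + (cL t r1 j Hcl + cL t (r1 * X) j Hcl) := by
    show cnt t (ext2 K₁ r1 hy2 hy2') = _
    rw [cnt_ext2 _ _ _ _ _ hr1not]
    show cnt t (ext2 K₀ X hy1 hy1') + cntY t r1 (ext2 K₀ X hy1 hy1') = _
    rw [cnt_ext2 _ _ _ _ _ hXnot, cntY_ext2 _ _ _ _ _ _ hXnot]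
    show cnt t (KS h Hcl cl_Hc) + cntY t X (KS h Hcl cl_Hc) +
      (cntY t r1 (KS h Hcl cl_Hc) + cntY t (r1 * X) (KS h Hcl cl_Hc)) = _
    rw [cnt_KS_F h FC hp, cntY_KS, cntY_KS, cntY_KS]
  -- the two remaining counts
  have hRe : r1 * X = psi t j 4 * r2 := by
    rw [hXdef, ← s1]; group
  have hr24 : r2 * psi t j 4 = psi t j 4 * r2 := by
    have := R.a2 4 (by norm_num)
    have e : L2 4 = 4 := by decide +kernel
    rw [e] at this
    exact mul_inv_eq_iff_eq_mul.1 this
  have C1 := R_count h (r1 := r1) (r2 := r2) r1 L1 R.a1 R.a2 R.a1 rfl R.c12.symm (w := 4)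
    (by norm_num) (by norm_num) s1 (by decide +kernel) (by decide +kernel) (by decide +kernel)
  have C2 := R_count h (r1 := r1) (r2 := r2) (r1 * X) L2 R.a1 R.a2 (by
      intro n hn
      have k : ∀ n : Fin 16, L2 n.1 < 32 ∧ conjS 4 (L2 n.1) = L2 n.1 := by decide +kernel
      obtain ⟨k1, k2⟩ := k ⟨n, hn⟩
      simp only at k1 k2
      rw [hRe]
      calc psi t j 4 * r2 * psi t j n * (psi t j 4 * r2)⁻¹
          = psi t j 4 * (r2 * psi t j n * r2⁻¹) * (psi t j 4)⁻¹ := by group
        _ = psi t j (L2 n) := by rw [R.a2 n hn, psi_conjS h 4 _ (by norm_num) k1, k2])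
    (by rw [mul_assoc r1 X r1, hXr1])
    (by
      calc r2 * (r1 * X) = (r2 * r1) * X := by group
        _ = (r1 * r2) * X := by rw [R.c12]
        _ = r1 * (r2 * X) := by group
        _ = r1 * (X * r2) := by rw [hXr2]
        _ = r1 * X * r2 := by group)
    (w := 8) (by norm_num) (by norm_num)
    (by
      calc r1 * X * (r1 * X) = r1 * (X * r1) * X := by group
        _ = r1 * (r1 * X) * X := by rw [hXr1]
        _ = (r1 * r1) * (X * X) := by group
        _ = psi t j 8 := by
          rw [s1, hXX, ← psi_mul h 4 12 (by norm_num) (by norm_num)]; rfl)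
    (by decide +kernel) (by decide +kernel) (by decide +kernel)
  have hk : IsConj t (r1 * X * psi t j 1) ↔ IsConj t (r1 * psi t j 1) := by
    have e1 : psi t j 16 * (r1 * psi t j 1) * (psi t j 16)⁻¹ = r2 * psi t j 1 := by
      have := psi_conjS h 16 1 (by norm_num) (by norm_num)
      have e : conjS 16 1 = 1 := by decide +kernel
      rw [e] at this
      calc psi t j 16 * (r1 * psi t j 1) * (psi t j 16)⁻¹
          = (psi t j 16 * r1 * (psi t j 16)⁻¹) * (psi t j 16 * psi t j 1 * (psi t j 16)⁻¹) := by group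
        _ = r2 * psi t j 1 := by rw [R.b1, this]
    have e2 : r1 * (r2 * psi t j 1) * r1⁻¹ = r2 * psi t j 5 := by
      have := R.a1 1 (by norm_num)
      have e : L1 1 = 5 := by decide +kernel
      rw [e] at this
      calc r1 * (r2 * psi t j 1) * r1⁻¹ = (r1 * r2) * psi t j 1 * r1⁻¹ := by group
        _ = (r2 * r1) * psi t j 1 * r1⁻¹ := by rw [R.c12]
        _ = r2 * (r1 * psi t j 1 * r1⁻¹) := by group
        _ = r2 * psi t j 5 := by rw [this]
    have e3 : r1 * X * psi t j 1 = r2 * psi t j 5 := by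
      rw [hRe]
      calc psi t j 4 * r2 * psi t j 1 = (psi t j 4 * r2) * psi t j 1 := rfl
        _ = (r2 * psi t j 4) * psi t j 1 := by rw [hr24]
        _ = r2 * (psi t j 4 * psi t j 1) := by group
        _ = r2 * psi t j 5 := by
          rw [← psi_mul h 4 1 (by norm_num) (by norm_num)]; rfl
    rw [e3, ← e2, isConj_conj_iff, ← e1, isConj_conj_iff]
  have hFC : Hcl.countP FC = 6 := by decide +kernel
  have hle := cnt_le_index t H
  have hM : ∃ v, v ≤ 4 ∧ cnt t H = 12 + 2 * v ∧ (v = 0 ∨ v = 4) := by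
    by_cases hD : IsConj t (r1 * psi t j 1)
    · refine ⟨4, le_rfl, ?_, Or.inr rfl⟩
      rw [hcnt, hFC, hXc, C1.1 hD, C2.1 (hk.2 hD)]
    · refine ⟨0, by norm_num, ?_, Or.inl rfl⟩
      rw [hcnt, hFC, hXc, C1.2 hD, C2.2 (fun e => hD (hk.1 e))]
  obtain ⟨v, -, hv, hv'⟩ := hM
  rw [hv] at hle
  obtain ⟨a, ha⟩ := h8
  refine index_two_of t h.t2 H 315 2 ((8 * a - (12 + 2 * v)) / 4) h.card (by decide) hHc ?_ ?_
  · rw [hv, ha]
    rcases hv' with rfl | rfl <;> omega
  · rw [Nat.odd_iff]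
    rcases hv' with rfl | rfl <;> omega

/-- Case (C). -/
theorem caseC [Finite G] (h : Cfg t j) (hp : ∀ n, n < 32 → (Dc t j n ↔ FC n = true)) :
    ∃ K : Subgroup G, K.index = 2 := by
  obtain ⟨r1, r2, r3, R⟩ := exists_RR h hp
  rcases R.sq with ⟨s1, s2, s3⟩ | ⟨s1, s2, -⟩
  · exact caseC_k0 h hp R s1 s2 s3
  · exact caseC_k1 h hp R s1 s2

end Cfsg.Agent.Lib.CS67.Cfg7
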