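import Cfsg.Agent.Lib.CS67.Local
import Cfsg.Agent.Lib.CS67.Perm7

/-! The configuration: an involution `t` with centralizer `⟨t⟩ × j(S₇)`. -/

set_option autoImplicit false
set_option maxRecDepth 100000

namespace Cfsg.Agent.Lib.CS67.Cfg7

open Cfsg.Agent.Lib.CS67.Sign Cfsg.Agent.Lib.CS67.Local Cfsg.Agent.Lib.CS67.Perm7

variable {G : Type*} [Group G]

/-- `t` is an involution whose centralizer is `⟨t⟩ × j(S₇)`. -/
structure Cfg (t : G) (j : P7 →* G) : Prop where
  t2 : t * t = 1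
  inj : Function.Injective j
  comm : ∀ π, j π * t = t * j π
  surj : ∀ g, g * t = t * g → ∃ π, g = j π ∨ g = t * j π
  tnot : ∀ π, j π ≠ t
  card : Nat.card (Subgroup.centralizer ({t} : Set G)) = 32 * 315

/-- The element of `G` with a given code. -/
def psi (t : G) (j : P7 →* G) (n : ℕ) : G := if n &&& 1 = 0 then j (toP n) else t * j (toP n)

section

variable {t : G} {j : P7 →* G}

lemma Cfg.ne_one (h : Cfg t j) : t ≠ 1 := fun e => h.tnot 1 (by simp [e])

lemma Cfg.j_ne_t_mul (h : Cfg t j) (π ρ : P7) : j π ≠ t * j ρ := by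
  intro e
  apply h.tnot (π * ρ⁻¹)
  rw [map_mul, e, map_inv]; group

lemma psi_bit (n : ℕ) (hn : n < 32) : n &&& 1 = 0 ∨ n &&& 1 = 1 := by
  have : ∀ x : Fin 32, x.1 &&& 1 = 0 ∨ x.1 &&& 1 = 1 := by decide
  exact this ⟨n, hn⟩

lemma psi_even (n : ℕ) (hn : n &&& 1 = 0) : psi t j n = j (toP n) := by simp [psi, hn]

lemma psi_odd (n : ℕ) (hn : n &&& 1 = 1) : psi t j n = t * j (toP n) := by simp [psi, hn]

theorem psi_mul (h : Cfg t j) (x y : ℕ) (hx : x < 32) (hy : y < 32) :
    psi t j (mulS x y) = psi t j x * psi t j y := by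
  have hP : toP (mulS x y) = toP x * toP y := by
    ext i
    have := toP_mul ⟨x, hx⟩ ⟨y, hy⟩ i
    rw [Equiv.Perm.mul_apply]
    exact congrArg Fin.val this
  have hbit := mulS_bit0 ⟨x, hx⟩ ⟨y, hy⟩
  simp only at hbit
  rcases psi_bit x hx with h1 | h1 <;> rcases psi_bit y hy with h2 | h2
  · rw [h1, h2] at hbit
    rw [psi_even _ hbit, psi_even x h1, psi_even y h2, hP, map_mul]
  · rw [h1, h2] at hbit
    rw [psi_odd _ (by simpa using hbit), psi_even x h1, psi_odd y h2, hP, map_mul, ← mul_assoc (j _) t,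
      h.comm, mul_assoc]
  · rw [h1, h2] at hbit
    rw [psi_odd _ (by simpa using hbit), psi_odd x h1, psi_even y h2, hP, map_mul, mul_assoc]
  · rw [h1, h2] at hbit
    rw [psi_even _ (by simpa using hbit), psi_odd x h1, psi_odd y h2, hP, map_mul]
    calc j (toP x) * j (toP y) = t * t * (j (toP x) * j (toP y)) := by rw [h.t2, one_mul]
      _ = t * (t * j (toP x)) * j (toP y) := by group
      _ = t * (j (toP x) * t) * j (toP y) := by rw [h.comm]
      _ = t * j (toP x) * (t * j (toP y)) := by group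

lemma toP_zero : toP 0 = 1 := by decide +kernel
lemma toP_one : toP 1 = 1 := by decide +kernel

lemma psi_zero : psi t j 0 = 1 := by simp [psi, toP_zero]

lemma psi_one : psi t j 1 = t := by simp [psi, toP_one]

theorem code_toP' : ∀ x : Fin 32, code (toP x.1) = x.1 &&& 30 := by decide +kernel

theorem psi_inj (h : Cfg t j) (x y : ℕ) (hx : x < 32) (hy : y < 32) (e : psi t j x = psi t j y) :
    x = y := by
  have key : ∀ x y : Fin 32, x.1 &&& 30 = y.1 &&& 30 → x.1 &&& 1 = y.1 &&& 1 → x = y := by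
    decide +kernel
  have hP : toP x = toP y → x &&& 1 = y &&& 1 → x = y := fun h1 h2 => by
    have h3 := code_toP' ⟨x, hx⟩
    have h4 := code_toP' ⟨y, hy⟩
    simp only at h3 h4
    have := key ⟨x, hx⟩ ⟨y, hy⟩ (by simp only; rw [← h3, ← h4, h1]) h2
    exact congrArg Fin.val this
  rcases psi_bit x hx with h1 | h1 <;> rcases psi_bit y hy with h2 | h2
  · rw [psi_even x h1, psi_even y h2] at e
    exact hP (h.inj e) (by rw [h1, h2])
  · rw [psi_even x h1, psi_odd y h2] at e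
    exact absurd e (h.j_ne_t_mul _ _)
  · rw [psi_odd x h1, psi_even y h2] at e
    exact absurd e.symm (h.j_ne_t_mul _ _)
  · rw [psi_odd x h1, psi_odd y h2] at e
    exact hP (h.inj (mul_left_cancel e)) (by rw [h1, h2])

lemma psi_comm_t (h : Cfg t j) (n : ℕ) (hn : n < 32) : psi t j n * t = t * psi t j n := by
  rcases psi_bit n hn with h1 | h1
  · rw [psi_even n h1, h.comm]
  · rw [psi_odd n h1, mul_assoc, h.comm]

/-! ### Subgroups given by lists of codes -/

/-- A list of codes closed under the operations. -/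
structure CL (L : List ℕ) : Prop where
  lt : ∀ n ∈ L, n < 32
  zero : 0 ∈ L
  mul : ∀ a ∈ L, ∀ b ∈ L, mulS a b ∈ L
  inv : ∀ a ∈ L, invS a ∈ L
  nodup : L.Nodup

lemma psi_invS (h : Cfg t j) (a : ℕ) (ha : a < 32) : psi t j (invS a) = (psi t j a)⁻¹ := by
  have h1 := mul_invS ⟨a, ha⟩
  simp only at h1
  have h2 := psi_mul h a (invS a) ha (invS_lt ⟨a, ha⟩)
  rw [h1, psi_zero] at h2
  exact eq_inv_of_mul_eq_one_right h2.symm

/-- The subgroup with a given list of codes. -/
def KS (h : Cfg t j) (L : List ℕ) (hL : CL L) : Subgroup G where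
  carrier := {g | ∃ n ∈ L, psi t j n = g}
  mul_mem' := by
    rintro _ _ ⟨a, ha, rfl⟩ ⟨b, hb, rfl⟩
    exact ⟨mulS a b, hL.mul a ha b hb, psi_mul h a b (hL.lt a ha) (hL.lt b hb)⟩
  one_mem' := ⟨0, hL.zero, psi_zero⟩
  inv_mem' := by
    rintro _ ⟨a, ha, rfl⟩
    exact ⟨invS a, hL.inv a ha, psi_invS h a (hL.lt a ha)⟩

lemma mem_KS (h : Cfg t j) (L : List ℕ) (hL : CL L) (g : G) :
    g ∈ KS h L hL ↔ ∃ n ∈ L, psi t j n = g := Iff.rfl

lemma psi_mem_KS (h : Cfg t j) (L : List ℕ) (hL : CL L) (n : ℕ) (hn : n ∈ L) :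
    psi t j n ∈ KS h L hL := ⟨n, hn, rfl⟩

lemma card_list_pred (L : List ℕ) (hL : L.Nodup) (q : ℕ → Prop) [DecidablePred q] :
    Nat.card {n : ℕ // n ∈ L ∧ q n} = L.countP (fun n => decide (q n)) := by
  rw [List.countP_eq_length_filter, ← List.toFinset_card_of_nodup (hL.filter _)]
  apply Nat.subtype_card
  intro x
  simp

open Classical in
lemma card_KS_pred (h : Cfg t j) (L : List ℕ) (hL : CL L) (p : G → Prop) :
    Nat.card {g : G // g ∈ KS h L hL ∧ p g} = L.countP (fun n => decide (p (psi t j n))) := by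
  rw [← card_list_pred L hL.nodup (fun n => p (psi t j n))]
  apply Nat.card_congr
  symm
  refine Equiv.ofBijective (fun x => ⟨psi t j x.1, ⟨x.1, x.2.1, rfl⟩, x.2.2⟩) ⟨?_, ?_⟩
  · rintro ⟨a, ha⟩ ⟨b, hb⟩ e
    apply Subtype.ext
    exact psi_inj h a b (hL.lt a ha.1) (hL.lt b hb.1) (Subtype.mk.inj e)
  · rintro ⟨g, ⟨n, hn, rfl⟩, hp⟩
    exact ⟨⟨n, hn, hp⟩, rfl⟩

lemma card_KS (h : Cfg t j) (L : List ℕ) (hL : CL L) : Nat.card (KS h L hL) = L.length := by
  have h1 := card_KS_pred h L hL (fun _ => True)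
  simp only [decide_true] at h1
  have h2 : L.countP (fun _ => true) = L.length := by simp
  rw [h2] at h1
  rw [← h1]
  exact Nat.card_congr ⟨fun x => ⟨x.1, x.2, trivial⟩, fun x => ⟨x.1, x.2.1⟩, fun _ => rfl, fun _ => rfl⟩

open Classical in
/-- Number of codes `n` in `L` with `y * ψ n` conjugate to `t`. -/
noncomputable def cL (t y : G) (j : P7 →* G) (L : List ℕ) : ℕ :=
  L.countP (fun n => decide (IsConj t (y * psi t j n)))

lemma cntY_KS (h : Cfg t j) (L : List ℕ) (hL : CL L) (y : G) :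
    cntY t y (KS h L hL) = cL t y j L := card_KS_pred h L hL _

lemma cnt_KS (h : Cfg t j) (L : List ℕ) (hL : CL L) : cnt t (KS h L hL) = cL t 1 j L := by
  rw [cnt_eq_cntY_one, cntY_KS]

lemma cL_congr (y : G) (L : List ℕ) (f : ℕ → Bool)
    (hf : ∀ n ∈ L, IsConj t (y * psi t j n) ↔ f n = true) : cL t y j L = L.countP f := by
  classical
  unfold cL
  apply List.countP_congr
  intro n hn
  rw [decide_eq_true_eq]
  exact hf n hn

/-- The code `n` stands for a conjugate of `t`. -/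
def Dc (t : G) (j : P7 →* G) (n : ℕ) : Prop := IsConj t (psi t j n)

lemma conj_sq (h : Cfg t j) (g : G) (hg : IsConj t g) : g * g = 1 := by
  obtain ⟨c, rfl⟩ := isConj_iff.1 hg
  calc c * t * c⁻¹ * (c * t * c⁻¹) = c * (t * t) * c⁻¹ := by group
    _ = 1 := by rw [h.t2]; group

lemma Dc_sq (h : Cfg t j) (n : ℕ) (hn : n < 32) (hD : Dc t j n) : mulS n n = 0 := by
  have h1 := conj_sq h _ hD
  rw [← psi_mul h n n hn hn, ← psi_zero (t := t) (j := j)] at h1
  exact psi_inj h _ _ (mulS_lt ⟨n, hn⟩ ⟨n, hn⟩) (by norm_num) h1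

lemma Dc_one : Dc t j 1 := by
  unfold Dc; rw [psi_one]

lemma not_Dc_zero (h : Cfg t j) : ¬ Dc t j 0 := by
  intro hD
  unfold Dc at hD
  rw [psi_zero] at hD
  exact h.ne_one (isConj_one_right.1 hD.symm)

/-- A conjugate of `t` is not a square of an element, unless ... -/
lemma not_square (h : Cfg t j) (x : G) (hx : IsConj t (x * x)) : False := by
  obtain ⟨c, hc⟩ := isConj_iff.1 hx
  -- `c⁻¹ x c` squares to `t`
  let y := c⁻¹ * x * c
  have hy : y * y = t := by
    have : y * y = c⁻¹ * (x * x) * c := by simp only [y]; group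
    rw [this, ← hc]; group
  have hyt : y * t = t * y := by rw [← hy]; group
  obtain ⟨π, e | e⟩ := h.surj y hyt
  · rw [e, ← map_mul] at hy
    exact h.tnot _ hy
  · rw [e] at hy
    have h1 : t * j π * (t * j π) = j (π * π) := by
      rw [map_mul]
      calc t * j π * (t * j π) = t * (j π * t) * j π := by group
        _ = t * (t * j π) * j π := by rw [h.comm]
        _ = (t * t) * (j π * j π) := by group
        _ = j π * j π := by rw [h.t2, one_mul]
    rw [h1] at hy
    exact h.tnot _ hy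

lemma not_Dc_z (h : Cfg t j) : ¬ Dc t j 12 := by
  intro hD
  apply not_square h (psi t j 20)
  rw [← psi_mul h 20 20 (by norm_num) (by norm_num)]
  have : mulS 20 20 = 12 := by decide +kernel
  rw [this]; exact hD

/-! ### The classes of involutions in the Sylow subgroup -/

/-- Number of transpositions of the permutation part of an involution code. -/
def kS (n : ℕ) : ℕ :=
  if n &&& 16 = 0 then ((n >>> 1) &&& 1) + ((n >>> 2) &&& 1) + ((n >>> 3) &&& 1)
  else ((n >>> 1) &&& 1) + 2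

/-- Which codes are conjugates of `t`, given the five parameters. -/
def PB (p1 p2 p3 p4 p5 : Bool) (n : ℕ) : Bool :=
  if n = 1 then true else if mulS n n ≠ 0 then false else
  if n &&& 1 = 0 then (if kS n = 1 then p2 else if kS n = 3 then p3 else false)
  else (if kS n = 1 then p4 else if kS n = 2 then p1 else if kS n = 3 then p5 else false)

/-- Class representative. -/
def repS (n : ℕ) : ℕ := (n &&& 1) + (if kS n = 1 then 2 else if kS n = 2 then 12 else 14)

def s24 : P7 := Equiv.swap 2 4 * Equiv.swap 3 5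
def s12 : P7 := Equiv.swap 1 2
def s13 : P7 := Equiv.swap 1 3

def wl : List P7 := [1, pi0, s24, s12, s13]

theorem repS_wit : ∀ n : Fin 32, mulS n.1 n.1 = 0 → n.1 ≠ 0 → n.1 ≠ 1 →
    ∃ w ∈ wl, ∀ i : Fin 7, w (toP (repS n.1) (w.symm i)) = toP n.1 i := by decide +kernel

theorem repS_bit : ∀ n : Fin 32, mulS n.1 n.1 = 0 → n.1 ≠ 0 → n.1 ≠ 1 →
    repS n.1 &&& 1 = n.1 &&& 1 ∧ repS n.1 < 32 ∧ repS n.1 ∈ [2, 12, 14, 3, 13, 15] := by decide +kernel

theorem PB_rep : ∀ p1 p2 p3 p4 p5 : Bool, ∀ n : Fin 32, mulS n.1 n.1 = 0 → n.1 ≠ 0 → n.1 ≠ 1 →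
    PB p1 p2 p3 p4 p5 n.1 = PB p1 p2 p3 p4 p5 (repS n.1) := by decide +kernel

lemma psi_conj_j (w : P7) (m n : ℕ) (hbit : m &&& 1 = n &&& 1) (hm : m < 32)
    (h : Cfg t j) (e : toP n = w * toP m * w⁻¹) : psi t j n = j w * psi t j m * (j w)⁻¹ := by
  rcases psi_bit m hm with h1 | h1
  · rw [psi_even m h1, psi_even n (by rw [← hbit, h1]), e, map_mul, map_mul, map_inv]
  · rw [psi_odd m h1, psi_odd n (by rw [← hbit, h1]), e, map_mul, map_mul, map_inv]
    have := h.comm w
    calc t * (j w * j (toP m) * (j w)⁻¹) = (t * j w) * j (toP m) * (j w)⁻¹ := by group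
      _ = (j w * t) * j (toP m) * (j w)⁻¹ := by rw [this]
      _ = j w * (t * j (toP m)) * (j w)⁻¹ := by group

lemma Dc_iff_rep (h : Cfg t j) (n : ℕ) (hn : n < 32) (h0 : mulS n n = 0) (hn0 : n ≠ 0) (hn1 : n ≠ 1) :
    Dc t j n ↔ Dc t j (repS n) := by
  obtain ⟨w, -, hw⟩ := repS_wit ⟨n, hn⟩ h0 hn0 hn1
  obtain ⟨hbit, hlt, -⟩ := repS_bit ⟨n, hn⟩ h0 hn0 hn1
  have e : toP n = w * toP (repS n) * w⁻¹ := by
    ext i
    have := hw i
    exact (congrArg Fin.val this).symm
  unfold Dc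
  rw [psi_conj_j w (repS n) n hbit hlt h e, isConj_conj_iff]

open Classical in
/-- The description of the conjugates of `t` in the Sylow subgroup. -/
theorem Dc_iff_PB (h : Cfg t j) (n : ℕ) (hn : n < 32) :
    Dc t j n ↔ PB (decide (Dc t j 13)) (decide (Dc t j 2)) (decide (Dc t j 14))
      (decide (Dc t j 3)) (decide (Dc t j 15)) n = true := by
  by_cases h1 : n = 1
  · subst h1
    simp [Dc_one (t := t) (j := j), PB]
  by_cases h0 : n = 0
  · subst h0
    have : ∀ p1 p2 p3 p4 p5 : Bool, PB p1 p2 p3 p4 p5 0 = false := by decide +kernel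
    simp [this, not_Dc_zero h]
  by_cases hs : mulS n n = 0
  · rw [Dc_iff_rep h n hn hs h0 h1, PB_rep _ _ _ _ _ ⟨n, hn⟩ hs h0 h1]
    simp only
    obtain ⟨-, -, hr⟩ := repS_bit ⟨n, hn⟩ hs h0 h1
    simp only at hr
    generalize repS n = r at hr
    have hz := not_Dc_z h
    simp only [List.mem_cons, List.not_mem_nil, or_false] at hr
    rcases hr with rfl | rfl | rfl | rfl | rfl | rfl
    · have : ∀ p1 p2 p3 p4 p5 : Bool, PB p1 p2 p3 p4 p5 2 = p2 := by decide +kernel
      simp [this]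
    · have : ∀ p1 p2 p3 p4 p5 : Bool, PB p1 p2 p3 p4 p5 12 = false := by decide +kernel
      simp [this, hz]
    · have : ∀ p1 p2 p3 p4 p5 : Bool, PB p1 p2 p3 p4 p5 14 = p3 := by decide +kernel
      simp [this]
    · have : ∀ p1 p2 p3 p4 p5 : Bool, PB p1 p2 p3 p4 p5 3 = p4 := by decide +kernel
      simp [this]
    · have : ∀ p1 p2 p3 p4 p5 : Bool, PB p1 p2 p3 p4 p5 13 = p1 := by decide +kernel
      simp [this]
    · have : ∀ p1 p2 p3 p4 p5 : Bool, PB p1 p2 p3 p4 p5 15 = p5 := by decide +kernel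
      simp [this]
  · have h2 : ¬ Dc t j n := fun hD => hs (Dc_sq h n hn hD)
    have : ∀ p1 p2 p3 p4 p5 : Bool, ∀ n : Fin 32, mulS n.1 n.1 ≠ 0 → PB p1 p2 p3 p4 p5 n.1 = false := by
      decide +kernel
    have h3 := this (decide (Dc t j 13)) (decide (Dc t j 2)) (decide (Dc t j 14))
      (decide (Dc t j 3)) (decide (Dc t j 15)) ⟨n, hn⟩ hs
    simp only at h3
    simp [h3, h2]

end

end Cfsg.Agent.Lib.CS67.Cfg7
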