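import Cfsg.Agent.Lib.CS67.Cfg7

/-! Elements normalizing the Sylow subgroup `S`; the lemma that conjugates in `Z(S)` are fused in
`N(S)`. -/

set_option autoImplicit false
set_option maxRecDepth 100000

namespace Cfsg.Agent.Lib.CS67.Cfg7

open Cfsg.Agent.Lib.CS67.Sign Cfsg.Agent.Lib.CS67.Local Cfsg.Agent.Lib.CS67.Perm7

variable {G : Type*} [Group G] {t : G} {j : P7 →* G}

/-- The list of all codes. -/
def Sl : List ℕ := List.range 32

theorem cl_S : CL Sl where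
  lt := by decide +kernel
  zero := by decide +kernel
  mul := by decide +kernel
  inv := by decide +kernel
  nodup := by decide +kernel

lemma mem_Sl {n : ℕ} : n ∈ Sl ↔ n < 32 := by simp [Sl]

lemma KS_S_le (h : Cfg t j) (d : ℕ) (hd : d < 32) (hc : ∀ n : Fin 32, mulS d n.1 = mulS n.1 d) :
    KS h Sl cl_S ≤ Subgroup.centralizer ({psi t j d} : Set G) := by
  rintro _ ⟨n, hn, rfl⟩
  rw [Subgroup.mem_centralizer_singleton_iff, ← psi_mul h n d (mem_Sl.1 hn) hd,
    ← psi_mul h d n hd (mem_Sl.1 hn), hc ⟨n, mem_Sl.1 hn⟩]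

lemma KS_S_le_t (h : Cfg t j) : KS h Sl cl_S ≤ Subgroup.centralizer ({t} : Set G) := by
  rintro _ ⟨n, hn, rfl⟩
  rw [Subgroup.mem_centralizer_singleton_iff]
  exact psi_comm_t h n (mem_Sl.1 hn)

lemma card_S (h : Cfg t j) : Nat.card (KS h Sl cl_S) = 2 ^ 5 := by
  rw [card_KS]; simp [Sl]

/-- `g` normalizes the Sylow subgroup. -/
structure Nrm (t : G) (j : P7 →* G) (g : G) : Prop where
  fwd : ∀ n, n < 32 → ∃ m, m < 32 ∧ g * psi t j n * g⁻¹ = psi t j m
  bwd : ∀ n, n < 32 → ∃ m, m < 32 ∧ g⁻¹ * psi t j n * g = psi t j m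

lemma Nrm.inv {g : G} (hg : Nrm t j g) : Nrm t j g⁻¹ :=
  ⟨fun n hn => by simpa using hg.bwd n hn, fun n hn => by simpa using hg.fwd n hn⟩

lemma Nrm.mul {g g' : G} (hg : Nrm t j g) (hg' : Nrm t j g') : Nrm t j (g * g') := by
  constructor
  · intro n hn
    obtain ⟨m, hm, e⟩ := hg'.fwd n hn
    obtain ⟨m', hm', e'⟩ := hg.fwd m hm
    refine ⟨m', hm', ?_⟩
    rw [← e', ← e]; group
  · intro n hn
    obtain ⟨m, hm, e⟩ := hg.bwd n hn
    obtain ⟨m', hm', e'⟩ := hg'.bwd m hm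
    refine ⟨m', hm', ?_⟩
    rw [← e', ← e]; group

lemma nrm_psi (h : Cfg t j) (c : ℕ) (hc : c < 32) : Nrm t j (psi t j c) := by
  constructor
  · intro n hn
    refine ⟨mulS (mulS c n) (invS c), ?_, ?_⟩
    · exact mulS_lt ⟨_, mulS_lt ⟨c, hc⟩ ⟨n, hn⟩⟩ ⟨_, invS_lt ⟨c, hc⟩⟩
    · rw [psi_mul h _ _ (mulS_lt ⟨c, hc⟩ ⟨n, hn⟩) (invS_lt ⟨c, hc⟩), psi_mul h _ _ hc hn,
        psi_invS h c hc]
  · intro n hn
    refine ⟨mulS (mulS (invS c) n) c, ?_, ?_⟩
    · exact mulS_lt ⟨_, mulS_lt ⟨_, invS_lt ⟨c, hc⟩⟩ ⟨n, hn⟩⟩ ⟨c, hc⟩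
    · rw [psi_mul h _ _ (mulS_lt ⟨_, invS_lt ⟨c, hc⟩⟩ ⟨n, hn⟩) hc,
        psi_mul h _ _ (invS_lt ⟨c, hc⟩) hn, psi_invS h c hc]

lemma Dc_conj {g : G} {n m : ℕ} (e : g * psi t j n * g⁻¹ = psi t j m) : Dc t j n ↔ Dc t j m := by
  unfold Dc
  rw [← e, isConj_conj_iff]

theorem exists_nrm [Finite G] (h : Cfg t j) (d : ℕ) (hd : d < 32) (hc : ∀ n : Fin 32, mulS d n.1 = mulS n.1 d)
    (hD : Dc t j d) : ∃ g, Nrm t j g ∧ g * t * g⁻¹ = psi t j d := by
  obtain ⟨g, hg, hs⟩ := sylow_conj t (psi t j d) hD (KS h Sl cl_S) (KS h Sl cl_S) (KS_S_le_t h)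
    (KS_S_le h d hd hc) 5 315 (by rw [h.card]; norm_num) (by decide) (card_S h) (card_S h)
  refine ⟨g, ⟨?_, ?_⟩, hg⟩
  · intro n hn
    obtain ⟨m, hm, e⟩ := (hs _).1 (psi_mem_KS h Sl cl_S n (mem_Sl.2 hn))
    exact ⟨m, mem_Sl.1 hm, e.symm⟩
  · intro n hn
    have h1 : g * (g⁻¹ * psi t j n * g) * g⁻¹ ∈ KS h Sl cl_S := by
      have : g * (g⁻¹ * psi t j n * g) * g⁻¹ = psi t j n := by group
      rw [this]; exact psi_mem_KS h Sl cl_S n (mem_Sl.2 hn)
    obtain ⟨m, hm, e⟩ := (hs _).2 h1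
    exact ⟨m, mem_Sl.1 hm, e.symm⟩

lemma j_conj (h : Cfg t j) (π ρ : P7) :
    (j π) * j ρ * (j π)⁻¹ = j (π * ρ * π⁻¹) := by simp

lemma tj_conj (h : Cfg t j) (π ρ : P7) :
    (t * j π) * j ρ * (t * j π)⁻¹ = j (π * ρ * π⁻¹) := by
  have h1 : t * (j (π * ρ * π⁻¹)) * t⁻¹ = j (π * ρ * π⁻¹) := by
    rw [← h.comm]; group
  rw [← h1, map_mul, map_mul, map_inv]; group

/-- If `j a = psi m` then `m` is even and `a = toP m`. -/
lemma j_eq_psi (h : Cfg t j) (a : P7) (m : ℕ) (hm : m < 32) (e : j a = psi t j m) :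
    m &&& 1 = 0 ∧ a = toP m := by
  rcases psi_bit m hm with h1 | h1
  · rw [psi_even m h1] at e
    exact ⟨h1, h.inj e⟩
  · rw [psi_odd m h1] at e
    exact absurd e (h.j_ne_t_mul _ _)

lemma toP_4 : toP 4 = u := by decide +kernel
lemma toP_8 : toP 8 = uz := by decide +kernel
lemma toP_2 : toP 2 = tau := by decide +kernel
lemma toP_16 : toP 16 = b := by decide +kernel
lemma toP_12 : toP 12 = z := by decide +kernel
lemma toP_14 : toP 14 = sig := by decide +kernel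

/-- An element normalizing `S` and centralizing `t` lies in `S`. -/
theorem nrm_comm_t (h : Cfg t j) {g : G} (hg : Nrm t j g) (hgt : g * t = t * g) :
    ∃ c, c < 32 ∧ g = psi t j c := by
  obtain ⟨π, hπ⟩ := h.surj g hgt
  have key : ∀ ρ : P7, g * j ρ * g⁻¹ = j (π * ρ * π⁻¹) := by
    intro ρ
    rcases hπ with e | e
    · rw [e]; exact j_conj h π ρ
    · rw [e]; exact tj_conj h π ρ
  have hin : ∀ (n : ℕ), n < 32 → n &&& 1 = 0 →
      inS0 (fun i => π (toP n (π.symm i))) = true := by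
    intro n hn hn0
    obtain ⟨m, hm, e⟩ := hg.fwd n hn
    rw [psi_even n hn0, key] at e
    obtain ⟨-, e2⟩ := j_eq_psi h _ m hm e
    have := inS0_toP ⟨m, hm⟩
    simp only at this
    rw [← e2] at this
    exact this
  have hn : nrmS0 π = true := by
    unfold nrmS0
    have h4 := hin 4 (by norm_num) (by decide)
    have h8 := hin 8 (by norm_num) (by decide)
    have h2 := hin 2 (by norm_num) (by decide)
    have h16 := hin 16 (by norm_num) (by decide)
    rw [toP_4] at h4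
    rw [toP_8] at h8
    rw [toP_2] at h2
    rw [toP_16] at h16
    simp [h4, h8, h2, h16]
  obtain ⟨x, hx⟩ := normalizer_S0 π hn
  have h0 : ∀ x : Fin 16, 2 * x.1 &&& 1 = 0 := by decide +kernel
  have h1 : ∀ x : Fin 16, (2 * x.1 + 1) &&& 1 = 1 ∧ toP (2 * x.1 + 1) = toP (2 * x.1) := by
    decide +kernel
  rcases hπ with e | e
  · exact ⟨2 * x.1, by omega, by rw [e, hx, psi_even _ (h0 x)]⟩
  · refine ⟨2 * x.1 + 1, by omega, ?_⟩
    rw [e, hx, psi_odd _ (h1 x).1, (h1 x).2]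

/-- An element of `N(S)` fixing a conjugate of `t` in `Z(S)` centralizes `t`. -/
theorem nrm_fix [Finite G] (h : Cfg t j) (d : ℕ) (hd : d < 32) (hc : ∀ n : Fin 32, mulS d n.1 = mulS n.1 d)
    (hD : Dc t j d) {g : G} (hg : Nrm t j g) (hfix : g * psi t j d * g⁻¹ = psi t j d) :
    g * t = t * g := by
  obtain ⟨g₀, hg₀, e₀⟩ := exists_nrm h d hd hc hD
  have hy : Nrm t j (g₀⁻¹ * g * g₀) := (hg₀.inv.mul hg).mul hg₀
  have hyt : (g₀⁻¹ * g * g₀) * t = t * (g₀⁻¹ * g * g₀) := by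
    have h1 : (g₀⁻¹ * g * g₀) * t * (g₀⁻¹ * g * g₀)⁻¹ = t := by
      calc (g₀⁻¹ * g * g₀) * t * (g₀⁻¹ * g * g₀)⁻¹ = g₀⁻¹ * (g * (g₀ * t * g₀⁻¹) * g⁻¹) * g₀ := by
            group
        _ = g₀⁻¹ * (g * psi t j d * g⁻¹) * g₀ := by rw [e₀]
        _ = g₀⁻¹ * (g₀ * t * g₀⁻¹) * g₀ := by rw [hfix, e₀]
        _ = t := by group
    exact mul_inv_eq_iff_eq_mul.1 h1
  obtain ⟨c, hc', e⟩ := nrm_comm_t h hy hyt
  obtain ⟨m, hm, e'⟩ := hg₀.fwd c hc'
  have hgm : g = psi t j m := by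
    rw [← e', ← e]; group
  rw [hgm]; exact psi_comm_t h m hm

theorem sq_code : ∀ m : Fin 32, mulS m.1 m.1 = 0 ∨ mulS m.1 m.1 = 12 := by decide +kernel

lemma psi_ne (h : Cfg t j) {a b : ℕ} (ha : a < 32) (hb : b < 32) (hab : a ≠ b) :
    psi t j a ≠ psi t j b := fun e => hab (psi_inj h a b ha hb e)

/-- Elements of `N(S)` fix `z`, the only nontrivial square of `S`. -/
theorem nrm_fix_z (h : Cfg t j) {g : G} (hg : Nrm t j g) : g * psi t j 12 * g⁻¹ = psi t j 12 := by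
  obtain ⟨m, hm, e⟩ := hg.fwd 20 (by norm_num)
  have h1 : psi t j 12 = psi t j 20 * psi t j 20 := by
    rw [← psi_mul h 20 20 (by norm_num) (by norm_num)]; rfl
  have h2 : g * psi t j 12 * g⁻¹ = psi t j (mulS m m) := by
    rw [psi_mul h m m hm hm, ← e, h1]; group
  rcases sq_code ⟨m, hm⟩ with h3 | h3 <;> simp only at h3
  · exfalso
    rw [h3, psi_zero] at h2
    have h4 : psi t j 12 = 1 := by
      have := congrArg (fun x => g⁻¹ * x * g) h2
      simpa [mul_assoc] using this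
    rw [← psi_zero (t := t) (j := j)] at h4
    exact absurd h4 (psi_ne h (by norm_num) (by norm_num) (by norm_num))
  · rw [h2, h3]

/-- Conjugation by `g` on products of codes. -/
lemma conj_mulS (h : Cfg t j) {g : G} {a b a' b' : ℕ} (ha : a < 32) (hb : b < 32)
    (ha' : a' < 32) (hb' : b' < 32)
    (e1 : g * psi t j a * g⁻¹ = psi t j a') (e2 : g * psi t j b * g⁻¹ = psi t j b') :
    g * psi t j (mulS a b) * g⁻¹ = psi t j (mulS a' b') := by
  rw [psi_mul h a b ha hb, psi_mul h a' b' ha' hb', ← e1, ← e2]; group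

lemma psi_eq_conj_left {g : G} {a b : ℕ} (e1 : g * psi t j a * g⁻¹ = psi t j b) :
    g⁻¹ * psi t j b * g = psi t j a := by
  rw [← e1]; group

theorem central_codes : ∀ v : Fin 32, (∀ m : Fin 32, mulS v.1 m.1 = mulS m.1 v.1) →
    v.1 ∈ [0, 1, 2, 3, 12, 13, 14, 15] := by decide +kernel

/-- An element of `N(S)` taking `t` to `t z` takes `τ` to `τ` or `τ z`. -/
theorem rank_tau (h : Cfg t j) {x : G} (hx : Nrm t j x) (hxt : x * t * x⁻¹ = psi t j 13) :
    x * psi t j 2 * x⁻¹ = psi t j 2 ∨ x * psi t j 2 * x⁻¹ = psi t j 14 := by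
  have hz := nrm_fix_z h hx
  have hxt' : x * psi t j 1 * x⁻¹ = psi t j 13 := by rw [psi_one]; exact hxt
  have h13 : x * psi t j 13 * x⁻¹ = psi t j 1 := by
    have := conj_mulS h (a := 1) (b := 12) (a' := 13) (b' := 12) (by norm_num) (by norm_num)
      (by norm_num) (by norm_num) hxt' hz
    have e1 : mulS 1 12 = 13 := by decide +kernel
    have e2 : mulS 13 12 = 1 := by decide +kernel
    rwa [e1, e2] at this
  -- the square of `x` lies in `S`
  have hxx : Nrm t j (x * x) := hx.mul hx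
  have hxxt : (x * x) * t = t * (x * x) := by
    have : (x * x) * t * (x * x)⁻¹ = t := by
      calc (x * x) * t * (x * x)⁻¹ = x * (x * t * x⁻¹) * x⁻¹ := by group
        _ = x * psi t j 13 * x⁻¹ := by rw [hxt]
        _ = t := by rw [h13, psi_one]
    exact mul_inv_eq_iff_eq_mul.1 this
  obtain ⟨c, hc, ec⟩ := nrm_comm_t h hxx hxxt
  obtain ⟨v, hv, ev⟩ := hx.fwd 2 (by norm_num)
  have hτc : ∀ m : Fin 32, mulS 2 m.1 = mulS m.1 2 := by decide +kernel
  have hvc : ∀ m : Fin 32, mulS v m.1 = mulS m.1 v := by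
    intro m
    obtain ⟨n, hn, en⟩ := hx.bwd m.1 m.2
    have en' : psi t j m.1 = x * psi t j n * x⁻¹ := by rw [← en]; group
    apply psi_inj h _ _ (mulS_lt ⟨v, hv⟩ m) (mulS_lt m ⟨v, hv⟩)
    rw [psi_mul h _ _ hv m.2, psi_mul h _ _ m.2 hv, en', ← ev]
    have h3 : psi t j 2 * psi t j n = psi t j n * psi t j 2 := by
      rw [← psi_mul h _ _ (by norm_num) hn, ← psi_mul h _ _ hn (by norm_num), hτc ⟨n, hn⟩]
    calc x * psi t j 2 * x⁻¹ * (x * psi t j n * x⁻¹) = x * (psi t j 2 * psi t j n) * x⁻¹ := by group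
      _ = x * (psi t j n * psi t j 2) * x⁻¹ := by rw [h3]
      _ = x * psi t j n * x⁻¹ * (x * psi t j 2 * x⁻¹) := by group
  have hvl := central_codes ⟨v, hv⟩ hvc
  simp only [List.mem_cons, List.not_mem_nil, or_false] at hvl
  -- `x` squares to something centralizing `τ`
  have hsq : x * psi t j v * x⁻¹ = psi t j 2 := by
    rw [← ev]
    have h3 : (x * x) * psi t j 2 * (x * x)⁻¹ = psi t j 2 := by
      rw [ec, ← psi_invS h c hc, ← psi_mul h _ _ hc (by norm_num),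
        ← psi_mul h _ _ (mulS_lt ⟨c, hc⟩ ⟨2, by norm_num⟩) (invS_lt ⟨c, hc⟩),
        ← hτc ⟨c, hc⟩]
      have : ∀ c : Fin 32, mulS (mulS 2 c.1) (invS c.1) = 2 := by decide +kernel
      rw [this ⟨c, hc⟩]
    calc x * (x * psi t j 2 * x⁻¹) * x⁻¹ = (x * x) * psi t j 2 * (x * x)⁻¹ := by group
      _ = psi t j 2 := h3
  have ne : ∀ a b : ℕ, a < 32 → b < 32 → a ≠ b → psi t j a ≠ psi t j b := fun a b ha hb hab =>
    psi_ne h ha hb hab
  have hinj : ∀ a b : G, x * a * x⁻¹ = x * b * x⁻¹ → a = b := fun a b e => by simpa using e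
  rcases hvl with e | e | e | e | e | e | e | e
  · exfalso
    subst e
    rw [psi_zero] at ev
    have : psi t j 2 = 1 := by
      apply hinj; rw [ev]; simp
    rw [← psi_zero (t := t) (j := j)] at this
    exact ne _ _ (by norm_num) (by norm_num) (by norm_num) this
  · exfalso
    subst e
    have : psi t j 2 = psi t j 13 := hinj _ _ (by rw [ev, h13])
    exact ne _ _ (by norm_num) (by norm_num) (by norm_num) this
  · left; subst e; exact ev
  · exfalso
    subst e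
    have h4 := conj_mulS h (a := 1) (b := 2) (a' := 13) (b' := 3) (by norm_num) (by norm_num)
      (by norm_num) (by norm_num) hxt' ev
    have e1 : mulS 1 2 = 3 := by decide +kernel
    have e2 : mulS 13 3 = 14 := by decide +kernel
    rw [e1, e2, hsq] at h4
    exact ne _ _ (by norm_num) (by norm_num) (by norm_num) h4
  · exfalso
    subst e
    have : psi t j 2 = psi t j 12 := hinj _ _ (by rw [ev, hz])
    exact ne _ _ (by norm_num) (by norm_num) (by norm_num) this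
  · exfalso
    subst e
    have : psi t j 2 = psi t j 1 := hinj _ _ (by rw [ev, hxt'])
    exact ne _ _ (by norm_num) (by norm_num) (by norm_num) this
  · right; subst e; exact ev
  · exfalso
    subst e
    -- `c_x (t τ z) = t z * t τ z * z = τ z`, not `τ`
    have h4 := conj_mulS h (a := 1) (b := 2) (a' := 13) (b' := 15) (by norm_num) (by norm_num)
      (by norm_num) (by norm_num) hxt' ev
    have e1 : mulS 1 2 = 3 := by decide +kernel
    have e2 : mulS 13 15 = 2 := by decide +kernel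
    rw [e1, e2] at h4
    have h5 := conj_mulS h (a := 3) (b := 12) (a' := 2) (b' := 12) (by norm_num) (by norm_num)
      (by norm_num) (by norm_num) h4 hz
    have e3 : mulS 3 12 = 15 := by decide +kernel
    have e4 : mulS 2 12 = 14 := by decide +kernel
    rw [e3, e4, hsq] at h5
    exact ne _ _ (by norm_num) (by norm_num) (by norm_num) h5

end Cfsg.Agent.Lib.CS67.Cfg7
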